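/-
The rank one Steinberg presentation of `SL₂` over a finite field.
-/
import Mathlib
import Cfsg.Agent.Lib.Classical.SL

namespace Cfsg.Agent.SL2Pres

open Matrix

variable (K : Type*) [Field K] (G : Type*) [Group G]

/-- Elements satisfying the rank one Steinberg relations. -/
structure SData where
  X : K → G
  Y : K → G
  addX : ∀ t u, X t * X u = X (t + u)
  addY : ∀ t u, Y t * Y u = Y (t + u)
  relX : ∀ t u, t ≠ 0 →
    (X t * Y (-t⁻¹) * X t) * X u * (X t * Y (-t⁻¹) * X t)⁻¹ = Y (-(t⁻¹ ^ 2 * u))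
  relY : ∀ t u, t ≠ 0 →
    (Y t * X (-t⁻¹) * Y t) * Y u * (Y t * X (-t⁻¹) * Y t)⁻¹ = X (-(t⁻¹ ^ 2 * u))

namespace SData

variable {K G} (D : SData K G)

def w (t : K) : G := D.X t * D.Y (-t⁻¹) * D.X t

def h (t : K) : G := D.w t * D.w (-1)

theorem X_zero : D.X 0 = 1 := mul_eq_left.1 (by rw [D.addX, add_zero] : D.X 0 * D.X 0 = D.X 0)

theorem Y_zero : D.Y 0 = 1 := mul_eq_left.1 (by rw [D.addY, add_zero] : D.Y 0 * D.Y 0 = D.Y 0)

theorem X_neg (t : K) : (D.X t)⁻¹ = D.X (-t) :=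
  inv_eq_of_mul_eq_one_right (by rw [D.addX, add_neg_cancel, X_zero])

theorem Y_neg (t : K) : (D.Y t)⁻¹ = D.Y (-t) :=
  inv_eq_of_mul_eq_one_right (by rw [D.addY, add_neg_cancel, Y_zero])

theorem w_inv (t : K) : (D.w t)⁻¹ = D.w (-t) := by
  simp only [w, _root_.mul_inv_rev, X_neg, Y_neg, inv_neg, neg_neg, mul_assoc]

theorem w_conj_X (t u : K) (ht : t ≠ 0) : D.w t * D.X u * (D.w t)⁻¹ = D.Y (-(t⁻¹ ^ 2 * u)) :=
  D.relX t u ht

theorem w_conj_Y (t u : K) (ht : t ≠ 0) : D.w t * D.Y u * (D.w t)⁻¹ = D.X (-(t ^ 2 * u)) := by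
  have h1 := D.w_conj_X (-t) (-(t ^ 2 * u)) (neg_ne_zero.2 ht)
  rw [← D.w_inv, inv_inv, show -((-t)⁻¹ ^ 2 * -(t ^ 2 * u)) = u by field_simp] at h1
  rw [← h1]; group

theorem w_eq_Y (t : K) (ht : t ≠ 0) : D.w t = D.Y (-t⁻¹) * D.X t * D.Y (-t⁻¹) := by
  have h : D.w t * (D.X t * D.Y (-t⁻¹) * D.X t) * (D.w t)⁻¹ = D.Y (-t⁻¹) * D.X t * D.Y (-t⁻¹) := by
    rw [show D.w t * (D.X t * D.Y (-t⁻¹) * D.X t) * (D.w t)⁻¹ =
      (D.w t * D.X t * (D.w t)⁻¹) * (D.w t * D.Y (-t⁻¹) * (D.w t)⁻¹) * (D.w t * D.X t * (D.w t)⁻¹) by group,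
      D.w_conj_X t _ ht, D.w_conj_Y t _ ht]
    congr 3 <;> field_simp
  rw [← h]
  simp [w, mul_assoc]

theorem w_conj_w (t s : K) (ht : t ≠ 0) (hs : s ≠ 0) :
    D.w t * D.w s * (D.w t)⁻¹ = D.w (t ^ 2 / s) := by
  rw [D.w_eq_Y (t ^ 2 / s) (div_ne_zero (pow_ne_zero _ ht) hs),
    show D.w t * D.w s * (D.w t)⁻¹ =
      (D.w t * D.X s * (D.w t)⁻¹) * (D.w t * D.Y (-s⁻¹) * (D.w t)⁻¹) * (D.w t * D.X s * (D.w t)⁻¹) by
      simp only [w]; group,
    D.w_conj_X t _ ht, D.w_conj_Y t _ ht]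
  congr 3 <;> field_simp

theorem h_conj_X (t u : K) (ht : t ≠ 0) : D.h t * D.X u * (D.h t)⁻¹ = D.X (t ^ 2 * u) := by
  rw [h, show D.w t * D.w (-1) * D.X u * (D.w t * D.w (-1))⁻¹ =
    D.w t * (D.w (-1) * D.X u * (D.w (-1))⁻¹) * (D.w t)⁻¹ by group, D.w_conj_X _ _ (neg_ne_zero.2 one_ne_zero),
    D.w_conj_Y t _ ht]
  congr 1; ring

theorem h_conj_Y (t u : K) (ht : t ≠ 0) : D.h t * D.Y u * (D.h t)⁻¹ = D.Y (t⁻¹ ^ 2 * u) := by
  rw [h, show D.w t * D.w (-1) * D.Y u * (D.w t * D.w (-1))⁻¹ =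
    D.w t * (D.w (-1) * D.Y u * (D.w (-1))⁻¹) * (D.w t)⁻¹ by group, D.w_conj_Y _ _ (neg_ne_zero.2 one_ne_zero),
    D.w_conj_X t _ ht]
  congr 1; ring

theorem h_one : D.h 1 = 1 := by rw [h, ← D.w_inv, mul_inv_cancel]

theorem h_conj_w (s t : K) (hs : s ≠ 0) : D.h s * D.w t * (D.h s)⁻¹ = D.w (s ^ 2 * t) := by
  rw [show D.h s * D.w t * (D.h s)⁻¹ =
      (D.h s * D.X t * (D.h s)⁻¹) * (D.h s * D.Y (-t⁻¹) * (D.h s)⁻¹) * (D.h s * D.X t * (D.h s)⁻¹) by
    simp only [w]; group, D.h_conj_X s _ hs, D.h_conj_Y s _ hs]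
  rw [w, _root_.mul_inv_rev, inv_pow, mul_comm t⁻¹, mul_neg]

theorem h_conj_h (s t : K) (hs : s ≠ 0) :
    D.h s * D.h t * (D.h s)⁻¹ = D.h (s ^ 2 * t) * (D.h (s ^ 2))⁻¹ := by
  have e : D.h s * D.h t * (D.h s)⁻¹ = (D.h s * D.w t * (D.h s)⁻¹) * (D.h s * D.w (-1) * (D.h s)⁻¹) := by
    simp only [h]; group
  rw [e, D.h_conj_w s t hs, D.h_conj_w s (-1) hs, mul_neg, mul_one]
  simp only [h, _root_.mul_inv_rev, w_inv, neg_neg]
  rw [mul_assoc, ← mul_assoc (D.w (-1)), show D.w (-1) * D.w 1 = 1 by rw [← D.w_inv, inv_mul_cancel], one_mul]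

theorem h_add_one (u v : K) (hu : u ≠ 0) (hv : v ≠ 0) (huv : u + v = 1) :
    D.h (u * v) = D.h u * D.h v := by
  have hinv : (u * v)⁻¹ = u⁻¹ + v⁻¹ := by
    field_simp
    linear_combination -huv
  have key : D.w (u * v) = D.w u * D.w (-1) * D.w v := by
    have hY : ∀ t : K, D.Y (-t⁻¹) = D.X (-t) * D.w t * D.X (-t) := fun t => by
      rw [w, ← D.X_neg]; group
    have hm : D.X (-1) = D.Y (-1) * D.w (-1) * D.Y (-1) := by
      rw [D.w_eq_Y (-1) (neg_ne_zero.2 one_ne_zero), inv_neg, inv_one, neg_neg]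
      simp only [mul_assoc]
      rw [D.addY, add_neg_cancel, Y_zero, mul_one, ← mul_assoc, D.addY, neg_add_cancel, Y_zero, one_mul]
    have h1 : D.w u * D.Y (-1) = D.X (u ^ 2) * D.w u := by
      have := D.w_conj_Y u (-1) hu
      rw [mul_inv_eq_iff_eq_mul] at this
      simpa using this
    have h2 : D.Y (-1) * D.w v = D.w v * D.X (v ^ 2) := by
      have := D.w_conj_X v (v ^ 2) hv
      rw [mul_inv_eq_iff_eq_mul, show -(v⁻¹ ^ 2 * v ^ 2) = (-1 : K) by field_simp] at this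
      exact this.symm
    calc D.w (u * v) = D.X (u * v) * (D.Y (-u⁻¹) * D.Y (-v⁻¹)) * D.X (u * v) := by
          rw [w, D.addY, hinv, neg_add]
      _ = (D.X (u * v) * D.X (-u)) * D.w u * (D.X (-u) * D.X (-v)) * D.w v * (D.X (-v) * D.X (u * v)) := by
          rw [hY u, hY v]; simp only [mul_assoc]
      _ = D.X (-(u ^ 2)) * D.w u * D.X (-1) * D.w v * D.X (-(v ^ 2)) := by
          rw [D.addX, D.addX, D.addX]
          rw [show u * v + -u = -(u ^ 2) by linear_combination u * huv,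
            show -u + -v = (-1 : K) by linear_combination -huv,
            show -v + u * v = -(v ^ 2) by linear_combination v * huv]
      _ = (D.X (-(u ^ 2)) * (D.w u * D.Y (-1))) * D.w (-1) * ((D.Y (-1) * D.w v) * D.X (-(v ^ 2))) := by
          rw [hm]; simp only [mul_assoc]
      _ = _ := by
          rw [h1, h2, ← D.X_neg, ← D.X_neg, inv_mul_cancel_left, mul_inv_cancel_right]
  simp only [h, key, mul_assoc]

variable [Finite K]

theorem commute_mem_closure {S : Set G} (hS : Subgroup.closure S = ⊤) {z : G}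
    (hz : ∀ s ∈ S, Commute z s) (g : G) : Commute z g := by
  have hle : Subgroup.closure S ≤ Subgroup.centralizer {z} := (Subgroup.closure_le _).2 fun s hs =>
    Subgroup.mem_centralizer_singleton_iff.2 (hz s hs).eq.symm
  have := Subgroup.mem_centralizer_singleton_iff.1 (hle (hS ▸ Subgroup.mem_top g))
  exact this.symm

variable (hgen : Subgroup.closure (Set.range D.X ∪ Set.range D.Y) = ⊤)
include hgen

theorem h_commute (s t : K) (hs : s ≠ 0) (ht : t ≠ 0) : Commute (D.h s) (D.h t) := by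
  classical
  obtain ⟨ν, hν⟩ := IsCyclic.exists_generator (α := Kˣ)
  have key : ∀ (n : ℕ) (r : K), r = (ν : K) ^ n → ∀ g, Commute (((D.h (ν : K)) ^ n)⁻¹ * D.h r) g := by
    intro n r hr
    have hact : ∀ n : ℕ, ∀ u, (D.h (ν : K)) ^ n * D.X u * ((D.h (ν : K)) ^ n)⁻¹ = D.X (((ν : K) ^ n) ^ 2 * u) ∧
        (D.h (ν : K)) ^ n * D.Y u * ((D.h (ν : K)) ^ n)⁻¹ = D.Y ((((ν : K) ^ n)⁻¹) ^ 2 * u) := by
      intro n
      induction n with
      | zero => intro u; simp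
      | succ n ih =>
        intro u
        constructor
        · rw [pow_succ' (D.h _), show D.h (ν : K) * D.h (ν : K) ^ n * D.X u * (D.h (ν : K) * D.h (ν : K) ^ n)⁻¹ =
            D.h (ν : K) * (D.h (ν : K) ^ n * D.X u * (D.h (ν : K) ^ n)⁻¹) * (D.h (ν : K))⁻¹ by group,
            (ih u).1, D.h_conj_X _ _ ν.ne_zero]
          congr 1; ring
        · rw [pow_succ' (D.h _), show D.h (ν : K) * D.h (ν : K) ^ n * D.Y u * (D.h (ν : K) * D.h (ν : K) ^ n)⁻¹ =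
            D.h (ν : K) * (D.h (ν : K) ^ n * D.Y u * (D.h (ν : K) ^ n)⁻¹) * (D.h (ν : K))⁻¹ by group,
            (ih u).2, D.h_conj_Y _ _ ν.ne_zero, pow_succ]
          congr 1
          field_simp
          try ring
    refine commute_mem_closure hgen ?_
    have hr0 : r ≠ 0 := hr ▸ pow_ne_zero _ ν.ne_zero
    rintro x (⟨u, rfl⟩ | ⟨u, rfl⟩)
    · refine commute_iff_eq _ _ |>.2 ?_
      have e1 := D.h_conj_X r u hr0
      rw [hr, ← (hact n u).1, ← hr] at e1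
      have := congrArg (fun g => ((D.h (ν : K)) ^ n)⁻¹ * g * D.h r) e1
      simpa [mul_assoc] using this
    · refine commute_iff_eq _ _ |>.2 ?_
      have e1 := D.h_conj_Y r u hr0
      rw [hr, ← (hact n u).2, ← hr] at e1
      have := congrArg (fun g => ((D.h (ν : K)) ^ n)⁻¹ * g * D.h r) e1
      simpa [mul_assoc] using this
  have hrep : ∀ r : K, r ≠ 0 → ∃ n : ℕ, r = (ν : K) ^ n := fun r hr => by
    obtain ⟨n, hn⟩ := mem_powers_iff_mem_zpowers.2 (hν (Units.mk0 r hr))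
    exact ⟨n, by simpa using (congrArg Units.val hn).symm⟩
  obtain ⟨m, hm⟩ := hrep s hs
  obtain ⟨n, hn⟩ := hrep t ht
  have e1 : D.h s = (D.h (ν : K)) ^ m * (((D.h (ν : K)) ^ m)⁻¹ * D.h s) := (mul_inv_cancel_left _ _).symm
  have e2 : D.h t = (D.h (ν : K)) ^ n * (((D.h (ν : K)) ^ n)⁻¹ * D.h t) := (mul_inv_cancel_left _ _).symm
  rw [e1, e2]
  refine Commute.mul_left (Commute.mul_right (Commute.pow_pow (Commute.refl _) _ _) (key n t hn _).symm) ?_
  exact key m s hm _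

theorem h_sq_mul (s t : K) (hs : s ≠ 0) (ht : t ≠ 0) : D.h (s ^ 2 * t) = D.h (s ^ 2) * D.h t := by
  have e := D.h_conj_h s t hs
  rw [(D.h_commute hgen s t hs ht).eq, mul_inv_cancel_right, eq_mul_inv_iff_mul_eq] at e
  rw [← e]
  exact (D.h_commute hgen t (s ^ 2) ht (pow_ne_zero _ hs)).eq

theorem h_mul (s t : K) (hs : s ≠ 0) (ht : t ≠ 0) : D.h (s * t) = D.h s * D.h t := by
  classical
  let : Fintype K := Fintype.ofFinite K
  have hsq : ∀ a : K, IsSquare a → a ≠ 0 → ∀ b, b ≠ 0 → D.h (a * b) = D.h a * D.h b := by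
    rintro a ⟨c, rfl⟩ ha b hb
    have := D.h_sq_mul hgen c b (left_ne_zero_of_mul ha) hb
    rwa [pow_two] at this
  by_cases hs2 : IsSquare s
  · exact hsq s hs2 hs t ht
  by_cases ht2 : IsSquare t
  · rw [mul_comm, hsq t ht2 ht s hs, (D.h_commute hgen t s ht hs).eq]
  have h2 : ringChar K ≠ 2 := fun h => hs2 (FiniteField.isSquare_of_char_two h s)
  obtain ⟨ν, hν, hν'⟩ : ∃ ν : K, ¬IsSquare ν ∧ ¬IsSquare (1 - ν) := by
    by_contra hcon
    push Not at hcon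
    set N := Finset.univ.filter fun a : K => ¬IsSquare a with hN
    set S := Finset.univ.filter fun a : K => IsSquare a ∧ a ≠ 0 ∧ a ≠ 1 with hS
    have hle : N.card ≤ S.card := by
      refine Finset.card_le_card_of_injOn (fun a => 1 - a) (fun a ha => ?_) (fun a _ b _ e => sub_right_injective e)
      simp only [hN, hS, Finset.coe_filter, Finset.mem_univ, true_and, Set.mem_setOf_eq] at ha ⊢
      refine ⟨hcon a ha, fun e => ha ?_, fun e => ha ?_⟩
      · rw [← sub_eq_zero.1 e]; exact ⟨1, (one_mul 1).symm⟩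
      · rw [sub_eq_self.1 e]; exact ⟨0, (mul_zero 0).symm⟩
    set S' := Finset.univ.filter fun a : K => IsSquare a ∧ a ≠ 0 with hS'
    have hlt : S.card < S'.card := by
      refine Finset.card_lt_card ((Finset.ssubset_iff_of_subset ?_).2 ⟨1, ?_, ?_⟩)
      · intro a ha
        simp only [hS, hS', Finset.mem_filter, Finset.mem_univ, true_and] at ha ⊢
        exact ⟨ha.1, ha.2.1⟩
      · simp [hS']
      · simp [hS]
    obtain ⟨μ, hμ⟩ := FiniteField.exists_nonsquare h2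
    have hμ0 : μ ≠ 0 := fun e => hμ (e ▸ ⟨0, (mul_zero 0).symm⟩)
    have hle2 : S'.card ≤ N.card := by
      refine Finset.card_le_card_of_injOn (fun a => μ * a) (fun a ha => ?_)
        (fun a _ b _ e => mul_left_cancel₀ hμ0 e)
      simp only [hS', hN, Finset.coe_filter, Finset.mem_univ, true_and, Set.mem_setOf_eq] at ha ⊢
      rintro ⟨c, hc⟩
      obtain ⟨⟨e, rfl⟩, he0⟩ := ha
      exact hμ ⟨c / e, by field_simp [left_ne_zero_of_mul he0]; linear_combination hc⟩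
    omega
  have hν0 : ν ≠ 0 := fun e => hν (e ▸ ⟨0, (mul_zero 0).symm⟩)
  have hν0' : 1 - ν ≠ 0 := fun e => hν' (e ▸ ⟨0, (mul_zero 0).symm⟩)
  have hquot : ∀ a b : K, ¬IsSquare a → ¬IsSquare b → IsSquare (a / b) := fun a b ha hb => by
    have ha0 : a ≠ 0 := fun e => ha (e ▸ ⟨0, (mul_zero 0).symm⟩)
    have hb0 : b ≠ 0 := fun e => hb (e ▸ ⟨0, (mul_zero 0).symm⟩)
    rw [← quadraticChar_one_iff_isSquare (div_ne_zero ha0 hb0), div_eq_mul_inv, map_mul, quadraticChar_neg_one_iff_not_isSquare.2 ha, quadraticChar_neg_one_iff_not_isSquare.2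
      (fun h => hb (by simpa using h.inv))]
    norm_num
  obtain ⟨a, ha0, ha⟩ : ∃ a, a ≠ 0 ∧ IsSquare a ∧ s = a * ν := ⟨s / ν, div_ne_zero hs hν0, hquot s ν hs2 hν,
    (div_mul_cancel₀ s hν0).symm⟩
  obtain ⟨b, hb0, hb⟩ : ∃ b, b ≠ 0 ∧ IsSquare b ∧ t = b * (1 - ν) := ⟨t / (1 - ν), div_ne_zero ht hν0',
    hquot t (1 - ν) ht2 hν', (div_mul_cancel₀ t hν0').symm⟩
  obtain ⟨ha2, rfl⟩ := ha
  obtain ⟨hb2, rfl⟩ := hb
  rw [show a * ν * (b * (1 - ν)) = (a * b) * (ν * (1 - ν)) by ring,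
    hsq (a * b) (ha2.mul hb2) (mul_ne_zero ha0 hb0) _ (mul_ne_zero hν0 hν0'),
    hsq a ha2 ha0 b hb0, hsq a ha2 ha0 ν hν0, hsq b hb2 hb0 _ hν0',
    D.h_add_one ν (1 - ν) hν0 hν0' (add_sub_cancel _ _)]
  rw [mul_assoc, ← mul_assoc (D.h b), (D.h_commute hgen b ν hb0 hν0).eq]
  group

/-- Normal form. -/
def Form (g : G) : Prop :=
  (∃ a t : K, t ≠ 0 ∧ g = D.X a * D.h t) ∨ ∃ a b t : K, t ≠ 0 ∧ g = D.X a * D.h t * D.w 1 * D.X b

theorem w_sq : D.w 1 * D.w 1 = D.h (-1) := by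
  have h1 : D.h (-1) * D.h (-1) = 1 := by
    rw [← D.h_mul hgen _ _ (neg_ne_zero.2 one_ne_zero) (neg_ne_zero.2 one_ne_zero), neg_one_mul, neg_neg, D.h_one]
  have h2 : D.w 1 * D.w 1 = (D.h (-1))⁻¹ := by
    rw [h, _root_.mul_inv_rev, D.w_inv, neg_neg]
  rw [h2]
  exact inv_eq_of_mul_eq_one_right h1

theorem form_all (g : G) : D.Form g := by
  have hX : ∀ g b, D.Form g → D.Form (g * D.X b) := by
    rintro g b (⟨a, t, ht, rfl⟩ | ⟨a, c, t, ht, rfl⟩)
    · refine Or.inl ⟨a + t ^ 2 * b, t, ht, ?_⟩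
      rw [← D.addX, mul_assoc, mul_assoc, ← D.h_conj_X t b ht]
      simp [mul_assoc]
    · exact Or.inr ⟨a, c + b, t, ht, by rw [← D.addX, mul_assoc _ (D.X c)]⟩
  have hw : ∀ g, D.Form g → D.Form (g * D.w 1) := by
    rintro g (⟨a, t, ht, rfl⟩ | ⟨a, c, t, ht, rfl⟩)
    · exact Or.inr ⟨a, 0, t, ht, by rw [X_zero, mul_one]⟩
    · have hm : (-1 : K) ≠ 0 := neg_ne_zero.2 one_ne_zero
      by_cases hc : c = 0
      · refine Or.inl ⟨a, t * -1, mul_ne_zero ht hm, ?_⟩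
        rw [hc, X_zero, mul_one, mul_assoc, D.w_sq hgen, mul_assoc, ← D.h_mul hgen t _ ht hm]
      · have e1 : D.w 1 * D.X c * D.w 1 = D.Y (-c) * D.h (-1) := by
          have := D.w_conj_X 1 c one_ne_zero
          rw [mul_inv_eq_iff_eq_mul, inv_one, one_pow, one_mul] at this
          rw [this, mul_assoc, D.w_sq hgen]
        have e2 : D.Y (-c) = D.X (-c⁻¹) * (D.h c⁻¹ * D.w 1) * D.X (-c⁻¹) := by
          have hw' : D.h c⁻¹ * D.w 1 = D.w c⁻¹ := by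
            rw [h, mul_assoc, ← D.w_inv, inv_mul_cancel, mul_one]
          rw [hw', w, inv_inv, ← D.X_neg]
          group
        have e3 : D.X (-c⁻¹) * D.h (-1) = D.h (-1) * D.X (-c⁻¹) := by
          have := D.h_conj_X (-1) (-c⁻¹) hm
          rw [neg_one_sq, one_mul, mul_inv_eq_iff_eq_mul] at this
          exact this.symm
        have e4 : D.w 1 * D.h (-1) = D.h (-1) * D.w 1 := by
          rw [← D.w_sq hgen, mul_assoc]
        have e5 : D.h t * D.X (-c⁻¹) = D.X (t ^ 2 * -c⁻¹) * D.h t := by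
          rw [← D.h_conj_X t _ ht]; group
        refine Or.inr ⟨a + t ^ 2 * -c⁻¹, -c⁻¹, t * c⁻¹ * -1,
          mul_ne_zero (mul_ne_zero ht (inv_ne_zero hc)) hm, ?_⟩
        calc D.X a * D.h t * D.w 1 * D.X c * D.w 1 = D.X a * D.h t * (D.w 1 * D.X c * D.w 1) := by
              simp only [mul_assoc]
          _ = D.X a * D.h t * (D.X (-c⁻¹) * (D.h c⁻¹ * D.w 1) * (D.X (-c⁻¹) * D.h (-1))) := by
              rw [e1, e2]; simp only [mul_assoc]
          _ = D.X a * (D.h t * D.X (-c⁻¹)) * D.h c⁻¹ * (D.w 1 * D.h (-1)) * D.X (-c⁻¹) := by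
              rw [e3]; simp only [mul_assoc]
          _ = _ := by
              rw [e4, e5, ← D.addX, D.h_mul hgen _ _ (mul_ne_zero ht (inv_ne_zero hc)) hm,
                D.h_mul hgen _ _ ht (inv_ne_zero hc)]
              simp only [mul_assoc]
  have hwinv : ∀ g, D.Form g → D.Form (g * (D.w 1)⁻¹) := fun g hg => by
    have : (D.w 1)⁻¹ = D.w 1 * D.w 1 * D.w 1 := by
      rw [inv_eq_iff_mul_eq_one, show D.w 1 * (D.w 1 * D.w 1 * D.w 1) = (D.w 1 * D.w 1) * (D.w 1 * D.w 1) by group,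
        D.w_sq hgen, ← D.h_mul hgen _ _ (neg_ne_zero.2 one_ne_zero) (neg_ne_zero.2 one_ne_zero), neg_one_mul,
        neg_neg, D.h_one]
    rw [this, ← mul_assoc, ← mul_assoc]
    exact hw _ (hw _ (hw _ hg))
  have hY : ∀ g b, D.Form g → D.Form (g * D.Y b) := fun g b hg => by
    have : D.Y b = D.w 1 * D.X (-b) * (D.w 1)⁻¹ := by rw [D.w_conj_X 1 _ one_ne_zero]; simp
    rw [this, ← mul_assoc, ← mul_assoc]
    exact hwinv _ (hX _ _ (hw _ hg))
  have hmem : g ∈ Subgroup.closure (Set.range D.X ∪ Set.range D.Y) := hgen ▸ Subgroup.mem_top g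
  induction hmem using Subgroup.closure_induction_right with
  | one => exact Or.inl ⟨0, 1, one_ne_zero, by rw [X_zero, h_one, mul_one]⟩
  | mul_right x hx y hy ih =>
    rcases hy with ⟨b, rfl⟩ | ⟨b, rfl⟩
    · exact hX _ _ ih
    · exact hY _ _ ih
  | mul_inv_cancel x hx y hy ih =>
    rcases hy with ⟨b, rfl⟩ | ⟨b, rfl⟩
    · rw [D.X_neg]; exact hX _ _ ih
    · rw [D.Y_neg]; exact hY _ _ ih

theorem injective_of (π : G →* SpecialLinearGroup (Fin 2) K)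
    (hπX : ∀ t, (π (D.X t) : Matrix (Fin 2) (Fin 2) K) = !![1, t; 0, 1])
    (hπY : ∀ t, (π (D.Y t) : Matrix (Fin 2) (Fin 2) K) = !![1, 0; t, 1]) :
    Function.Injective π := by
  rw [← MonoidHom.ker_eq_bot_iff, Subgroup.eq_bot_iff_forall]
  intro g hg
  have hg' : (π g : Matrix (Fin 2) (Fin 2) K) = 1 := congrArg Subtype.val (MonoidHom.mem_ker.1 hg : π g = 1)
  have hmv : ∀ x y, (π (x * y) : Matrix (Fin 2) (Fin 2) K) =
      (π x : Matrix (Fin 2) (Fin 2) K) * (π y : Matrix (Fin 2) (Fin 2) K) := fun x y =>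
    congrArg Subtype.val (π.map_mul x y)
  have hwv : ∀ t : K, t ≠ 0 → (π (D.w t) : Matrix (Fin 2) (Fin 2) K) = !![0, t; -t⁻¹, 0] := fun t ht => by
    simp [w, hmv, hπX, hπY, ht]
  have hhv : ∀ t : K, t ≠ 0 → (π (D.h t) : Matrix (Fin 2) (Fin 2) K) = !![t, 0; 0, t⁻¹] := fun t ht => by
    rw [h, hmv, hwv t ht, hwv (-1) (neg_ne_zero.2 one_ne_zero)]
    simp
  rcases D.form_all hgen g with ⟨a, t, ht, rfl⟩ | ⟨a, b, t, ht, rfl⟩
  · simp [hmv, hπX, hhv t ht, Matrix.one_fin_two] at hg'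
    obtain ⟨⟨h1, h2⟩, -⟩ := hg'
    subst h1
    simp at h2
    rw [h_one, mul_one, h2, X_zero]
  · simp [hmv, hπX, hhv t ht, hwv 1 one_ne_zero, Matrix.one_fin_two] at hg'
    obtain ⟨-, h3, -⟩ := hg'
    exact absurd h3 (by simp [ht])

end SData

end Cfsg.Agent.SL2Pres
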