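/-
Universal property of `SL₂` over a finite field with respect to the rank one Steinberg relations.
-/
import Mathlib
import Cfsg.Agent.Lib.SL2Pres.Steinberg

namespace Cfsg.Agent.SL2Pres

open Matrix

variable {K : Type*} [Field K]

/-- upper unitriangular element -/
def up (t : K) : SpecialLinearGroup (Fin 2) K := ⟨!![1, t; 0, 1], by simp [det_fin_two]⟩

/-- lower unitriangular element -/
def low (t : K) : SpecialLinearGroup (Fin 2) K := ⟨!![1, 0; t, 1], by simp [det_fin_two]⟩

theorem up_val (t : K) : (up t : Matrix (Fin 2) (Fin 2) K) = !![1, t; 0, 1] := rfl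

theorem low_val (t : K) : (low t : Matrix (Fin 2) (Fin 2) K) = !![1, 0; t, 1] := rfl

/-- the root elements of `SL₂` -/
def rootGen : Bool × K → SpecialLinearGroup (Fin 2) K := fun p => cond p.1 (up p.2) (low p.2)

/-- the relations -/
def rels (K : Type*) [Field K] : Set (FreeGroup (Bool × K)) :=
  {g : FreeGroup (Bool × K) | ∃ (b : Bool) (t u : K), g = FreeGroup.of (b, t) * FreeGroup.of (b, u) * (FreeGroup.of (b, t + u))⁻¹} ∪
    {g | ∃ (b : Bool) (t u : K), t ≠ 0 ∧
      g = (FreeGroup.of (b, t) * FreeGroup.of (!b, -t⁻¹) * FreeGroup.of (b, t)) * FreeGroup.of (b, u) *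
            (FreeGroup.of (b, t) * FreeGroup.of (!b, -t⁻¹) * FreeGroup.of (b, t))⁻¹ * (FreeGroup.of (!b, -(t⁻¹ ^ 2 * u)))⁻¹}

theorem rels_hold : ∀ g ∈ rels K, FreeGroup.lift rootGen g = 1 := by
  rintro g (⟨b, t, u, rfl⟩ | ⟨b, t, u, ht, rfl⟩)
  · simp only [map_mul, map_inv, FreeGroup.lift_apply_of, mul_inv_eq_one]
    apply Subtype.ext
    cases b <;> simp [rootGen, cond_true, cond_false, up_val, low_val, Matrix.mul_fin_two, add_comm]
  · simp only [map_mul, map_inv, FreeGroup.lift_apply_of, mul_inv_eq_one, mul_inv_eq_iff_eq_mul]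
    apply Subtype.ext
    cases b <;> simp [rootGen, cond_true, cond_false, up_val, low_val, Matrix.mul_fin_two] <;> field_simp <;> ring_nf <;> simp

/-- the canonical map -/
def toSL : PresentedGroup (rels K) →* SpecialLinearGroup (Fin 2) K :=
  PresentedGroup.toGroup rels_hold

theorem toSL_of (b : Bool) (t : K) : toSL (PresentedGroup.of (b, t)) = rootGen (b, t) :=
  PresentedGroup.toGroup.of rels_hold

/-- the Steinberg data of the presented group -/
def presData : SData K (PresentedGroup (rels K)) where
  X t := PresentedGroup.of (true, t)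
  Y t := PresentedGroup.of (false, t)
  addX t u := mul_inv_eq_one.1 (PresentedGroup.one_of_mem (Or.inl ⟨true, t, u, rfl⟩))
  addY t u := mul_inv_eq_one.1 (PresentedGroup.one_of_mem (Or.inl ⟨false, t, u, rfl⟩))
  relX t u ht := mul_inv_eq_one.1 (PresentedGroup.one_of_mem (Or.inr ⟨true, t, u, ht, rfl⟩))
  relY t u ht := mul_inv_eq_one.1 (PresentedGroup.one_of_mem (Or.inr ⟨false, t, u, ht, rfl⟩))

theorem presData_gen : Subgroup.closure (Set.range (presData (K := K)).X ∪ Set.range (presData (K := K)).Y) = ⊤ := by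
  rw [eq_top_iff, ← PresentedGroup.closure_range_of, Subgroup.closure_le]
  rintro g ⟨⟨b, t⟩, rfl⟩
  cases b
  · exact Subgroup.subset_closure (Or.inr ⟨t, rfl⟩)
  · exact Subgroup.subset_closure (Or.inl ⟨t, rfl⟩)

theorem toSL_bijective [Finite K] : Function.Bijective (toSL (K := K)) := by
  refine ⟨presData.injective_of presData_gen toSL ?_ ?_, ?_⟩
  · intro t
    change ((toSL (PresentedGroup.of (true, t)) : SpecialLinearGroup (Fin 2) K) : Matrix (Fin 2) (Fin 2) K) = _
    rw [toSL_of]; rfl
  · intro t
    change ((toSL (PresentedGroup.of (false, t)) : SpecialLinearGroup (Fin 2) K) : Matrix (Fin 2) (Fin 2) K) = _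
    rw [toSL_of]; rfl
  · rw [← MonoidHom.range_eq_top, eq_top_iff, ← Cfsg.Agent.ClassicalSL.closure_elemTransvections,
      Subgroup.closure_le]
    rintro g ⟨i, j, hij, c, rfl⟩
    fin_cases i <;> fin_cases j <;> first | exact absurd rfl hij | skip
    · refine ⟨PresentedGroup.of (true, c), ?_⟩
      rw [toSL_of]
      apply Subtype.ext
      rw [SpecialLinearGroup.transvection_coe]
      ext a b
      fin_cases a <;> fin_cases b <;> simp [rootGen, up_val, Matrix.single_apply]
    · refine ⟨PresentedGroup.of (false, c), ?_⟩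
      rw [toSL_of]
      apply Subtype.ext
      rw [SpecialLinearGroup.transvection_coe]
      ext a b
      fin_cases a <;> fin_cases b <;> simp [rootGen, low_val, Matrix.single_apply]

/-- The presentation of `SL₂`. -/
noncomputable def steinbergEquiv [Finite K] : PresentedGroup (rels K) ≃* SpecialLinearGroup (Fin 2) K :=
  MulEquiv.ofBijective toSL toSL_bijective

theorem steinbergEquiv_of [Finite K] (b : Bool) (t : K) :
    steinbergEquiv (PresentedGroup.of (b, t)) = rootGen (b, t) := toSL_of b t

/-- Universal property. -/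
theorem exists_hom [Finite K] {G : Type*} [Group G] (D : SData K G) :
    ∃ ψ : SpecialLinearGroup (Fin 2) K →* G,
      (∀ t, ψ (up t) = D.X t) ∧ (∀ t, ψ (low t) = D.Y t) := by
  let f : Bool × K → G := fun p => cond p.1 (D.X p.2) (D.Y p.2)
  have hf : ∀ g ∈ rels K, FreeGroup.lift f g = 1 := by
    rintro g (⟨b, t, u, rfl⟩ | ⟨b, t, u, ht, rfl⟩)
    · simp only [map_mul, map_inv, FreeGroup.lift_apply_of, mul_inv_eq_one]
      cases b
      · exact D.addY t u
      · exact D.addX t u
    · simp only [map_mul, map_inv, FreeGroup.lift_apply_of, mul_inv_eq_one]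
      cases b
      · exact D.relY t u ht
      · exact D.relX t u ht
  refine ⟨(PresentedGroup.toGroup hf).comp steinbergEquiv.symm.toMonoidHom, fun t => ?_, fun t => ?_⟩
  · have e : steinbergEquiv.symm (up t) = PresentedGroup.of (true, t) :=
      steinbergEquiv.symm_apply_eq.2 (steinbergEquiv_of true t).symm
    simp only [MonoidHom.coe_comp, MulEquiv.coe_toMonoidHom, Function.comp_apply, e]
    exact PresentedGroup.toGroup.of hf
  · have e : steinbergEquiv.symm (low t) = PresentedGroup.of (false, t) :=
      steinbergEquiv.symm_apply_eq.2 (steinbergEquiv_of false t).symm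
    simp only [MonoidHom.coe_comp, MulEquiv.coe_toMonoidHom, Function.comp_apply, e]
    exact PresentedGroup.toGroup.of hf

end Cfsg.Agent.SL2Pres
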