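/-
Building the root group of a short presentation of `SL₂(q)` from few relations.
-/
import Mathlib

namespace Cfsg.Agent.SL2Pres

open Polynomial

variable {G : Type*} [Group G]

/-- The `n`-th conjugate of `x` by `h`. -/
def cj (x h : G) (n : ℤ) : G := h ^ n * x * (h ^ n)⁻¹

theorem cj_zero (x h : G) : cj x h 0 = x := by simp [cj]

theorem cj_shift (x h : G) (k n : ℤ) : h ^ k * cj x h n * (h ^ k)⁻¹ = cj x h (k + n) := by
  simp only [cj, _root_.zpow_add, _root_.mul_inv_rev, mul_assoc]

theorem map_cj {G' : Type*} [Group G'] (φ : G →* G') (x h : G) (n : ℤ) :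
    φ (cj x h n) = cj (φ x) (φ h) n := by simp [cj]

/-- The word `∏ᵢ c(iβ)^(aᵢ)` of an integral polynomial. -/
noncomputable def word (x h : G) (β : ℤ) (P : ℤ[X]) : G :=
  ((List.range (P.natDegree + 1)).map fun i : ℕ => cj x h ((i : ℤ) * β) ^ P.coeff i).prod

theorem map_word {G' : Type*} [Group G'] (φ : G →* G') (x h : G) (β : ℤ) (P : ℤ[X]) :
    φ (word x h β P) = word (φ x) (φ h) β P := by
  rw [word, word, map_list_prod, List.map_map]
  congr 1
  exact List.map_congr_left fun i _ => by simp [map_cj]

theorem conj_mul_eq {g a b : G} : g * (a * b) * g⁻¹ = (g * a * g⁻¹) * (g * b * g⁻¹) := by group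

theorem commute_conj {a b : G} (g : G) (hc : Commute a b) : Commute (g * a * g⁻¹) (g * b * g⁻¹) := by
  change _ * _ = _ * _
  rw [← conj_mul_eq, ← conj_mul_eq, hc.eq]

/-- Baumslag's trick. -/
theorem commute_all_of_trinomial {x h : G} {α β : ℤ} (h1 : Commute x (cj x h β))
    (h2 : cj x h α = x * cj x h β) (j : ℤ) : Commute x (cj x h (j * β)) := by
  have key : ∀ n : ℕ, ∀ i ≤ n, Commute x (cj x h ((i : ℤ) * β)) := by
    intro n
    induction n with
    | zero =>
      intro i hi
      rw [Nat.le_zero.1 hi, Nat.cast_zero, zero_mul, cj_zero]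
    | succ n ih =>
      intro i hi
      rcases Nat.lt_or_ge i (n + 1) with hlt | hge
      · exact ih i (Nat.lt_succ_iff.1 hlt)
      obtain rfl : i = n + 1 := le_antisymm hi hge
      rcases Nat.eq_zero_or_pos n with rfl | hn
      · simpa using h1
      have shift : ∀ k l : ℤ, Commute x (cj x h l) → Commute (cj x h k) (cj x h (k + l)) := fun k l hc => by
        replace hc := commute_conj (h ^ k) hc
        rwa [show h ^ k * x * (h ^ k)⁻¹ = cj x h k from rfl, cj_shift] at hc
      set B := cj x h β with hB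
      set C := cj x h ((n : ℤ) * β) with hC
      set D := cj x h (((n + 1 : ℕ) : ℤ) * β) with hD
      have hAC : Commute x C := ih n le_rfl
      have hBD : Commute B D := by
        have := shift β ((n : ℤ) * β) hAC
        rwa [show β + (n : ℤ) * β = ((n + 1 : ℕ) : ℤ) * β by push_cast; ring] at this
      have hBC : Commute B C := by
        have := shift β (((n - 1 : ℕ) : ℤ) * β) (ih (n - 1) (by omega))
        rwa [show β + ((n - 1 : ℕ) : ℤ) * β = (n : ℤ) * β by rw [Nat.cast_sub hn]; ring] at this
      have hCD : cj x h (α + (n : ℤ) * β) = C * D := by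
        rw [add_comm α, ← cj_shift, h2, conj_mul_eq]
        rw [show h ^ ((n : ℤ) * β) * x * (h ^ ((n : ℤ) * β))⁻¹ = C from rfl, hB, cj_shift]
        congr 2
        push_cast; ring
      have hmain : Commute (x * B) (C * D) := by
        have := shift α ((n : ℤ) * β) hAC
        rwa [h2, hCD] at this
      have e1 : x * B * (C * D) = C * (x * D) * B := by
        calc x * B * (C * D) = x * (B * C) * D := by group
          _ = x * (C * B) * D := by rw [hBC.eq]
          _ = (x * C) * (B * D) := by group
          _ = (C * x) * (D * B) := by rw [hAC.eq, hBD.eq]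
          _ = _ := by group
      have e2 : C * D * (x * B) = C * (D * x) * B := by group
      have := hmain.eq
      rw [e1, e2] at this
      exact mul_left_cancel (mul_right_cancel this)
  rcases le_total 0 j with hj | hj
  · obtain ⟨n, rfl⟩ := Int.eq_ofNat_of_zero_le hj
    exact key n n le_rfl
  · obtain ⟨n, hn⟩ := Int.eq_ofNat_of_zero_le (neg_nonneg.2 hj)
    have h3 := commute_conj (h ^ (j * β)) (key n n le_rfl)
    rw [show h ^ (j * β) * x * (h ^ (j * β))⁻¹ = cj x h (j * β) from rfl, cj_shift,
      show j * β + (n : ℤ) * β = 0 by rw [← hn]; ring, cj_zero] at h3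
    exact h3.symm

variable (x h : G) (β : ℤ)

/-- The subgroup generated by the conjugates `c(jβ)`. -/
def span : Subgroup G := Subgroup.closure (Set.range fun j : ℤ => cj x h (j * β))

theorem cj_mem_span (j : ℤ) : cj x h (j * β) ∈ span x h β := Subgroup.subset_closure ⟨j, rfl⟩

theorem mem_span_self : x ∈ span x h β := by simpa [cj_zero] using cj_mem_span x h β 0

theorem commute_of_mem_span (hc : ∀ j : ℤ, Commute x (cj x h (j * β))) {a b : G}
    (ha : a ∈ span x h β) (hb : b ∈ span x h β) : Commute a b := by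
  have hgen : ∀ i j : ℤ, Commute (cj x h (i * β)) (cj x h (j * β)) := fun i j => by
    have := commute_conj (h ^ (i * β)) (hc (j - i))
    rwa [show h ^ (i * β) * x * (h ^ (i * β))⁻¹ = cj x h (i * β) from rfl, cj_shift,
      show i * β + (j - i) * β = j * β by ring] at this
  have h1 : ∀ i, Commute (cj x h (i * β)) b := fun i =>
    (Subgroup.mem_centralizer_singleton_iff.1 ((Subgroup.closure_le (Subgroup.centralizer {cj x h (i * β)})).2
      (by rintro _ ⟨j, rfl⟩; exact Subgroup.mem_centralizer_singleton_iff.2 (hgen i j).eq.symm) hb)).symm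
  exact Subgroup.mem_centralizer_singleton_iff.1 ((Subgroup.closure_le (Subgroup.centralizer {b})).2
    (by rintro _ ⟨i, rfl⟩; exact Subgroup.mem_centralizer_singleton_iff.2 (h1 i).eq) ha)

theorem conj_pow_mem_span (k : ℤ) {a : G} (ha : a ∈ span x h β) :
    h ^ (k * β) * a * (h ^ (k * β))⁻¹ ∈ span x h β := by
  refine (Subgroup.closure_le ((span x h β).comap (MulAut.conj (h ^ (k * β))).toMonoidHom)).2 ?_ ha
  rintro _ ⟨j, rfl⟩
  change h ^ (k * β) * cj x h (j * β) * (h ^ (k * β))⁻¹ ∈ span x h β
  rw [cj_shift, ← add_mul]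
  exact cj_mem_span x h β _

theorem word_mem_span (P : ℤ[X]) : word x h β P ∈ span x h β :=
  Subgroup.list_prod_mem _ fun a ha => by
    obtain ⟨i, -, rfl⟩ := List.mem_map.1 ha
    exact Subgroup.zpow_mem _ (cj_mem_span x h β i) _

theorem conj_h_mem_span {P : ℤ[X]} (hg : h * x * h⁻¹ = word x h β P) {a : G} (ha : a ∈ span x h β) :
    h * a * h⁻¹ ∈ span x h β := by
  refine (Subgroup.closure_le ((span x h β).comap (MulAut.conj h).toMonoidHom)).2 ?_ ha
  rintro _ ⟨j, rfl⟩
  change h * cj x h (j * β) * h⁻¹ ∈ span x h β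
  have : h * cj x h (j * β) * h⁻¹ = h ^ (j * β) * (h * x * h⁻¹) * (h ^ (j * β))⁻¹ := by
    simp only [cj]; group
  rw [this, hg]
  exact conj_pow_mem_span x h β j (word_mem_span x h β P)

/-- An element of the span commuting with `h` is trivial in the presence of a trinomial relation. -/
theorem eq_one_of_commute {α : ℤ} (hc : ∀ j : ℤ, Commute x (cj x h (j * β)))
    (h2 : cj x h α = x * cj x h β) {v : G} (hv : v ∈ span x h β) (hvh : Commute h v) : v = 1 := by
  have hfix : ∀ k : ℤ, h ^ k * v * (h ^ k)⁻¹ = v := fun k => by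
    rw [(hvh.zpow_left k).eq, mul_inv_cancel_right]
  have key : ∀ a ∈ span x h β, h ^ α * a * (h ^ α)⁻¹ = a * (h ^ β * a * (h ^ β)⁻¹) := by
    intro a ha
    induction ha using Subgroup.closure_induction with
    | mem y hy =>
      obtain ⟨j, rfl⟩ := hy
      change h ^ α * cj x h (j * β) * (h ^ α)⁻¹ = cj x h (j * β) * (h ^ β * cj x h (j * β) * (h ^ β)⁻¹)
      rw [cj_shift, cj_shift, add_comm α, ← cj_shift, h2, add_comm β, ← cj_shift _ _ (j * β) β]
      simp only [cj]; group
    | one => simp
    | mul a b ha hb iha ihb =>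
      have e : ∀ g : G, g * (a * b) * g⁻¹ = (g * a * g⁻¹) * (g * b * g⁻¹) := fun g => by group
      rw [e, e, iha, ihb]
      have hb' : h ^ β * b * (h ^ β)⁻¹ ∈ span x h β := by
        simpa using conj_pow_mem_span x h β 1 hb
      have ha' : h ^ β * a * (h ^ β)⁻¹ ∈ span x h β := by
        simpa using conj_pow_mem_span x h β 1 ha
      rw [mul_assoc a, ← mul_assoc (h ^ β * a * (h ^ β)⁻¹) b,
        (commute_of_mem_span x h β hc ha' hb).eq]
      group
    | inv a ha iha =>
      have e : ∀ g : G, g * a⁻¹ * g⁻¹ = (g * a * g⁻¹)⁻¹ := fun g => by group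
      rw [e, e, iha, _root_.mul_inv_rev]
      have ha' : h ^ β * a * (h ^ β)⁻¹ ∈ span x h β := by
        simpa using conj_pow_mem_span x h β 1 ha
      exact (commute_of_mem_span x h β hc (inv_mem ha') (inv_mem ha)).eq
  have := key v hv
  rw [hfix, hfix] at this
  exact mul_eq_left.1 this.symm

variable {x h β}

/-- The additive map from the field to the span. -/
theorem exists_root_hom {p : ℕ} [Fact p.Prime] {K : Type*} [Field K] [Finite K] [CharP K p]
    {B u : K} (hB : Algebra.adjoin ℤ {B} = ⊤) {f gu : ℤ[X]}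
    (hf : ∀ P : ℤ[X], aeval B P = 0 → ∃ Q R : ℤ[X], P = f * Q + C (p : ℤ) * R)
    (hgu : aeval B gu = u) (hc : ∀ j : ℤ, Commute x (cj x h (j * β)))
    (hxp : x ^ p = 1) (hfx : word x h β f = 1) (hg : h * x * h⁻¹ = word x h β gu) :
    ∃ X : K → G, (∀ s t, X s * X t = X (s + t)) ∧ X 1 = x ∧ (∀ t, h * X t * h⁻¹ = X (u * t)) ∧
      ∀ P : ℤ[X], X (aeval B P) = word x h β P := by
  classical
  let hcomm : IsMulCommutative (span x h β) :=
    ⟨⟨fun a b => Subtype.ext (commute_of_mem_span x h β hc a.2 b.2).eq⟩⟩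
  let V := span x h β
  let _ : CommGroup V := { (inferInstance : Group V) with mul_comm := hcomm.1.1 }
  let φ : Additive V →+ Additive V := MonoidHom.toAdditive
    { toFun := fun a => (⟨h ^ ((1 : ℤ) * β) * a.1 * (h ^ ((1 : ℤ) * β))⁻¹, conj_pow_mem_span x h β 1 a.2⟩ : V)
      map_one' := Subtype.ext (by simp)
      map_mul' := fun a b => Subtype.ext (by simp only [Subgroup.coe_mul]; group) }
  let θ : Module.End ℤ (Additive V) := φ.toIntLinearMap
  let x0 : Additive V := Additive.ofMul ⟨x, mem_span_self x h β⟩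
  let val : Additive V → G := fun a => (a.toMul : V).1
  have val_add : ∀ a b, val (a + b) = val a * val b := fun a b => rfl
  have val_inj : Function.Injective val := fun a b e => Additive.toMul.injective (Subtype.ext e)
  have hpow : ∀ (i : ℕ), val ((θ ^ i) x0) = cj x h ((i : ℤ) * β) := by
    intro i
    induction i with
    | zero => simp [val, x0, cj_zero]
    | succ i ih =>
      rw [pow_succ', Module.End.mul_apply]
      change h ^ ((1 : ℤ) * β) * val ((θ ^ i) x0) * (h ^ ((1 : ℤ) * β))⁻¹ = _
      rw [ih, cj_shift]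
      congr 1; push_cast; ring
  have hmono : ∀ (a : ℤ) (i : ℕ), val (aeval θ (monomial i a) x0) = cj x h ((i : ℤ) * β) ^ a := by
    intro a i
    rw [aeval_monomial, Module.End.mul_apply, Module.algebraMap_end_apply, ← hpow]
    rfl
  let Φ : ℤ[X] → G := fun P => val (aeval θ P x0)
  have Φ_add : ∀ P Q, Φ (P + Q) = Φ P * Φ Q := fun P Q => by
    simp only [Φ, map_add, LinearMap.add_apply, val_add]
  have Φ_word : ∀ P, Φ P = word x h β P := by
    intro P
    have key : ∀ n, Φ (∑ i ∈ Finset.range n, monomial i (P.coeff i)) =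
        ((List.range n).map fun i : ℕ => cj x h ((i : ℤ) * β) ^ P.coeff i).prod := by
      intro n
      induction n with
      | zero => simp [Φ]; rfl
      | succ n ih =>
        rw [Finset.sum_range_succ, Φ_add, ih, List.range_succ, List.map_append, List.prod_append]
        simp [Φ, hmono]
    conv_lhs => rw [as_sum_range P]
    exact key _
  have hp0 : (p : ℕ) • x0 = 0 := Additive.toMul.injective (Subtype.ext (by simpa [x0] using hxp))
  have hf0 : aeval θ f x0 = 0 := val_inj ((Φ_word f).trans hfx)
  have hker : ∀ P : ℤ[X], aeval B P = 0 → aeval θ P x0 = 0 := by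
    intro P hP
    obtain ⟨Q, R, rfl⟩ := hf P hP
    rw [map_add, LinearMap.add_apply, mul_comm f Q, map_mul, Module.End.mul_apply, hf0, map_zero, zero_add,
      mul_comm, map_mul, Module.End.mul_apply, aeval_C, Module.algebraMap_end_apply, natCast_zsmul, hp0, map_zero]
  have hsurj : Function.Surjective (aeval B : ℤ[X] →ₐ[ℤ] K) := by
    rw [← AlgHom.range_eq_top, ← Algebra.adjoin_singleton_eq_range_aeval, hB]
  choose l hl using hsurj
  have hwd : ∀ P : ℤ[X], Φ (l (aeval B P)) = Φ P := fun P => by
    have := hker (l (aeval B P) - P) (by rw [map_sub, hl, sub_self])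
    rw [map_sub, LinearMap.sub_apply, sub_eq_zero] at this
    exact congrArg val this
  have hh : ∀ P : ℤ[X], h * Φ P * h⁻¹ = Φ (P * gu) := by
    intro P
    have hgx : h * val x0 * h⁻¹ = Φ gu := by rw [Φ_word]; exact hg
    let γ : Additive V →+ Additive V := MonoidHom.toAdditive
      { toFun := fun a => (⟨h * a.1 * h⁻¹, conj_h_mem_span x h β hg a.2⟩ : V)
        map_one' := Subtype.ext (by simp)
        map_mul' := fun a b => Subtype.ext (by simp only [Subgroup.coe_mul]; group) }
    let η : Module.End ℤ (Additive V) := γ.toIntLinearMap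
    have hηθ : Commute η θ := LinearMap.ext fun a => val_inj (by
      change h * (h ^ ((1 : ℤ) * β) * val a * (h ^ ((1 : ℤ) * β))⁻¹) * h⁻¹ =
        h ^ ((1 : ℤ) * β) * (h * val a * h⁻¹) * (h ^ ((1 : ℤ) * β))⁻¹
      group)
    have hcommP : Commute η (aeval θ P) := by
      induction P using Polynomial.induction_on' with
      | add P Q hP hQ => rw [map_add]; exact hP.add_right hQ
      | monomial i a => rw [aeval_monomial]; exact (Algebra.commute_algebraMap_right a η).mul_right (hηθ.pow_right i)
    have e1 : η (aeval θ P x0) = aeval θ P (η x0) := LinearMap.congr_fun hcommP.eq x0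
    have e2 : η x0 = aeval θ gu x0 := val_inj (by rw [show val (η x0) = h * val x0 * h⁻¹ from rfl, hgx])
    change val (η (aeval θ P x0)) = _
    rw [e1, e2, ← Module.End.mul_apply, ← map_mul]
  refine ⟨fun t => Φ (l t), fun s t => ?_, ?_, fun t => ?_, fun P => ?_⟩
  · rw [← Φ_add, ← hwd (l s + l t), map_add, hl, hl]
  · have := hwd 1
    rw [map_one] at this
    change Φ (l 1) = x
    rw [this]
    simp [Φ, val, x0]
  · rw [hh, ← hwd (l t * gu), map_mul, hl, hgu, mul_comm]
  · change Φ (l (aeval B P)) = _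
    rw [hwd, Φ_word]

end Cfsg.Agent.SL2Pres
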