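/-
Field-theoretic lemmas for short presentations of `SL₂(q)`.
-/
import Mathlib

namespace Cfsg.Agent.SL2Pres

open Polynomial

variable {K : Type*} [Field K] [Fintype K] (p : ℕ) [Fact p.Prime] [CharP K p]

theorem exists_lift (P : (ZMod p)[X]) : ∃ Q : ℤ[X], Q.map (Int.castRingHom (ZMod p)) = P :=
  Polynomial.map_surjective _ ZMod.intCast_surjective P

theorem aeval_map_cast [Algebra (ZMod p) K] (B : K) (P : ℤ[X]) :
    aeval B (P.map (Int.castRingHom (ZMod p))) = aeval B P := by
  rw [aeval_def, eval₂_map, aeval_def]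
  congr 1
  exact RingHom.ext_int _ _

theorem adjoin_int_eq_top {e : ℕ} (hq : Fintype.card K = p ^ e) (B : K)
    (h : ∀ d, 1 ≤ d → 2 * d ≤ e → B ^ p ^ d ≠ B) : Algebra.adjoin ℤ {B} = (⊤ : Subalgebra ℤ K) := by
  classical
  let _ : Algebra (ZMod p) K := ZMod.algebra K p
  set E := IntermediateField.adjoin (ZMod p) ({B} : Set K) with hE
  have hmul := Module.finrank_mul_finrank (ZMod p) E K
  have he : Module.finrank (ZMod p) K = e := by
    have := Module.card_eq_pow_finrank (K := ZMod p) (V := K)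
    rw [hq, ZMod.card] at this
    exact (Nat.pow_right_injective (Fact.out : p.Prime).two_le this).symm
  rw [he] at hmul
  set d := Module.finrank (ZMod p) E with hd
  have hd1 : 1 ≤ d := Module.finrank_pos
  have hBd : B ^ p ^ d = B := by
    have hcard : Fintype.card E = p ^ d := by rw [Module.card_eq_pow_finrank (K := ZMod p), ZMod.card]
    have := FiniteField.pow_card (⟨B, IntermediateField.mem_adjoin_simple_self _ B⟩ : E)
    rw [hcard] at this
    simpa using congrArg Subtype.val this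
  have hk : Module.finrank E K = 1 := by
    by_contra hk
    have hk0 : 0 < Module.finrank E K := Module.finrank_pos
    exact h d hd1 (by rw [← hmul, mul_comm 2]; exact Nat.mul_le_mul_left _ (by omega)) hBd
  have htop : E = ⊤ := IntermediateField.finrank_eq_one_iff_eq_top.1 hk
  rw [eq_top_iff]
  intro t _
  have ht : t ∈ E.toSubalgebra := by rw [htop]; exact Algebra.mem_top
  rw [hE, IntermediateField.adjoin_simple_toSubalgebra_of_isAlgebraic (Algebra.IsAlgebraic.isAlgebraic B),
    Algebra.adjoin_singleton_eq_range_aeval] at ht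
  obtain ⟨P, rfl⟩ := ht
  obtain ⟨Q, rfl⟩ := exists_lift p P
  rw [Algebra.adjoin_singleton_eq_range_aeval]
  exact ⟨Q, by simp [aeval_map_cast]⟩

theorem exists_minimal_lift (B : K) : ∃ f : ℤ[X], aeval B f = 0 ∧
    ∀ P : ℤ[X], aeval B P = 0 → ∃ Q R : ℤ[X], P = f * Q + C (p : ℤ) * R := by
  let _ : Algebra (ZMod p) K := ZMod.algebra K p
  obtain ⟨f, hf⟩ := exists_lift p (minpoly (ZMod p) B)
  refine ⟨f, by rw [← aeval_map_cast p B f, hf, minpoly.aeval], fun P hP => ?_⟩
  rw [← aeval_map_cast p B P] at hP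
  obtain ⟨q₀, hq₀⟩ := minpoly.dvd (ZMod p) B hP
  obtain ⟨Q, rfl⟩ := exists_lift p q₀
  have h0 : (P - f * Q).map (Int.castRingHom (ZMod p)) = 0 := by
    rw [Polynomial.map_sub, Polynomial.map_mul, hf, hq₀, sub_self]
  have hdvd : C (p : ℤ) ∣ P - f * Q := by
    rw [C_dvd_iff_dvd_coeff]
    intro i
    have := congrArg (fun R => coeff R i) h0
    simp only [coeff_map, coeff_zero] at this
    exact (ZMod.intCast_zmod_eq_zero_iff_dvd _ p).1 this
  obtain ⟨R, hR⟩ := hdvd
  exact ⟨Q, R, eq_add_of_sub_eq' hR⟩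

/-- Squares `B`, `B + 1` with `B` generating the field. -/
theorem exists_square_pair {e : ℕ} (hq : Fintype.card K = p ^ e) (hp : p ≠ 2) (he : 2 ≤ e)
    (h9 : Fintype.card K ≠ 9) :
    ∃ B c d : K, c ≠ 0 ∧ d ≠ 0 ∧ B = c ^ 2 ∧ B + 1 = d ^ 2 ∧ Algebra.adjoin ℤ {B} = (⊤ : Subalgebra ℤ K) := by
  classical
  have hp3 : 3 ≤ p := by
    have := (Fact.out : p.Prime).two_le; omega
  have h2 : (2 : K) ≠ 0 := Ring.two_ne_zero (by rw [ringChar.eq K p]; exact hp)
  set T := (Finset.univ : Finset K).filter fun t => t ≠ 0 ∧ t ^ 4 ≠ 1 with hT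
  have hTcard : Fintype.card K ≤ T.card + 5 := by
    have h4 : ((Finset.univ : Finset K).filter fun t => t ^ 4 = 1).card ≤ 4 := by
      refine le_trans (Finset.card_le_card fun t ht => ?_)
        ((Multiset.toFinset_card_le _).trans (Polynomial.card_nthRoots 4 (1 : K)))
      simp only [Finset.mem_filter] at ht
      rw [Multiset.mem_toFinset, mem_nthRoots (by norm_num)]
      exact ht.2
    have hsub : (Finset.univ : Finset K) ⊆
        T ∪ ((Finset.univ : Finset K).filter fun t => t ^ 4 = 1) ∪ {0} := fun t _ => by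
      simp only [hT, Finset.mem_union, Finset.mem_filter, Finset.mem_univ, true_and, Finset.mem_singleton]
      tauto
    have h5 := (Finset.card_le_card hsub).trans (Finset.card_union_le _ _)
    have h6 := Finset.card_union_le T ((Finset.univ : Finset K).filter fun t => t ^ 4 = 1)
    rw [Finset.card_univ, Finset.card_singleton] at h5
    omega
  let B : K → K := fun t => ((t - t⁻¹) / 2) ^ 2
  have hB1 : ∀ t : K, t ≠ 0 → B t + 1 = ((t + t⁻¹) / 2) ^ 2 := fun t ht => by
    simp only [B]; field_simp; ring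
  have hfib : T.card ≤ 4 * (T.image B).card := by
    refine Finset.card_le_mul_card_image T 4 fun b hb => ?_
    obtain ⟨a, ha, rfl⟩ := Finset.mem_image.1 hb
    refine le_trans (Finset.card_le_card (t := {a, -a, a⁻¹, -a⁻¹}) fun t ht => ?_) Finset.card_le_four
    simp only [hT, Finset.mem_filter, Finset.mem_univ, true_and] at ha ht
    obtain ⟨⟨ht0, -⟩, htb⟩ := ht
    have ha0 : a ≠ 0 := ha.1
    have hprod : (t - a) * (t + a⁻¹) * ((t + a) * (t - a⁻¹)) = 0 := by
      have e : (t - t⁻¹) ^ 2 = (a - a⁻¹) ^ 2 := by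
        simp only [B, div_pow] at htb
        exact (div_left_inj' (pow_ne_zero 2 h2)).1 htb
      field_simp at e ⊢
      linear_combination e
    simp only [Finset.mem_insert, Finset.mem_singleton]
    rcases mul_eq_zero.1 hprod with h | h <;> rcases mul_eq_zero.1 h with h | h
    · exact Or.inl (sub_eq_zero.1 h)
    · exact Or.inr (Or.inr (Or.inr (eq_neg_of_add_eq_zero_left h)))
    · exact Or.inr (Or.inl (eq_neg_of_add_eq_zero_left h))
    · exact Or.inr (Or.inr (Or.inl (sub_eq_zero.1 h)))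
  by_contra hcon
  push Not at hcon
  set f := e / 2 with hf
  set Bad := (Finset.Icc 1 f).biUnion fun d => (Finset.univ : Finset K).filter fun x => x ^ p ^ d = x with hBad
  have hne : ∀ t ∈ T, (t - t⁻¹) / 2 ≠ 0 ∧ (t + t⁻¹) / 2 ≠ 0 := fun t ht => by
    simp only [hT, Finset.mem_filter, Finset.mem_univ, true_and] at ht
    constructor <;> refine div_ne_zero (fun h => ht.2 ?_) h2
    · have h' := ht.1; field_simp at h; linear_combination (t ^ 2 + 1) * h
    · have h' := ht.1; field_simp at h; linear_combination (t ^ 2 - 1) * h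
  have hsub : T.image B ⊆ (Bad.erase 0).erase (-1) := by
    intro b hb
    obtain ⟨t, ht, rfl⟩ := Finset.mem_image.1 hb
    obtain ⟨hn1, hn2⟩ := hne t ht
    have ht0 : t ≠ 0 := by simp only [hT, Finset.mem_filter] at ht; exact ht.2.1
    refine Finset.mem_erase.2 ⟨fun h => hn2 ?_, Finset.mem_erase.2 ⟨pow_ne_zero 2 hn1, ?_⟩⟩
    · have := hB1 t ht0
      rw [h, neg_add_cancel] at this
      exact eq_zero_of_pow_eq_zero this.symm
    by_contra hbad
    refine hcon (B t) _ _ hn1 hn2 rfl (hB1 t ht0) (adjoin_int_eq_top p hq _ fun d hd1 hd2 h => ?_)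
    exact hbad (Finset.mem_biUnion.2 ⟨d, Finset.mem_Icc.2 ⟨hd1, by omega⟩, by simpa using h⟩)
  have hroot : ∀ d, 1 ≤ d → ((Finset.univ : Finset K).filter fun x => x ^ p ^ d = x).card ≤ p ^ d := by
    intro d hd
    have hne0 := FiniteField.X_pow_card_pow_sub_X_ne_zero K (p := p) (n := d) (by omega) (Fact.out : p.Prime).one_lt
    have hdeg := FiniteField.X_pow_card_pow_sub_X_natDegree_eq K (p := p) (n := d) (by omega) (Fact.out : p.Prime).one_lt
    refine (Polynomial.card_le_degree_of_subset_roots (p := X ^ p ^ d - X) fun x hx => ?_).trans_eq hdeg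
    rw [Finset.mem_val, Finset.mem_filter] at hx
    rw [Polynomial.mem_roots hne0]
    simp only [IsRoot.def, eval_sub, eval_pow, eval_X, sub_eq_zero]
    exact hx.2
  have hsum : ∀ g, 2 * (∑ d ∈ Finset.Icc 1 g, p ^ d) + 3 ≤ 3 * p ^ g := by
    intro g
    induction g with
    | zero => simp
    | succ g ih =>
      rw [Finset.sum_Icc_succ_top (by omega), pow_succ]
      have : 3 * p ^ g ≤ p ^ g * p := by rw [mul_comm 3]; exact Nat.mul_le_mul_left _ hp3
      omega
  have hbadcard : Bad.card ≤ ∑ d ∈ Finset.Icc 1 f, p ^ d :=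
    Finset.card_biUnion_le.trans (Finset.sum_le_sum fun d hd => hroot d (Finset.mem_Icc.1 hd).1)
  have hf1 : 1 ≤ f := by omega
  have h01 : 2 + ((Bad.erase 0).erase (-1)).card ≤ Bad.card := by
    have hmem : ∀ z : K, z ^ p = z → z ∈ Bad := fun z hz =>
      Finset.mem_biUnion.2 ⟨1, Finset.mem_Icc.2 ⟨le_rfl, hf1⟩, by simpa using hz⟩
    have h0 : (0 : K) ∈ Bad := hmem 0 (zero_pow (by omega))
    have h1 : (-1 : K) ∈ Bad.erase 0 :=
      Finset.mem_erase.2 ⟨neg_ne_zero.2 one_ne_zero, hmem _ (Odd.neg_one_pow ((Fact.out : p.Prime).odd_of_ne_two hp))⟩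
    rw [Finset.card_erase_of_mem h1, Finset.card_erase_of_mem h0]
    have := Finset.card_pos.2 ⟨_, h1⟩
    rw [Finset.card_erase_of_mem h0] at this
    omega
  have himg := Finset.card_le_card hsub
  have hkey : 4 * (∑ d ∈ Finset.Icc 1 f, p ^ d) < Fintype.card K + 3 := by
    have hs := hsum f
    set s := p ^ f with hsdef
    rw [hq] at h9 ⊢
    have hq2 : s * s ≤ p ^ e := by
      rw [hsdef, ← pow_add]; exact Nat.pow_le_pow_right (by omega) (by omega)
    have hs3 : 3 ≤ s := le_trans hp3 (Nat.le_self_pow (by omega) p)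
    rcases Nat.lt_or_ge 3 s with hlt | hge
    · have : 4 * s ≤ s * s := Nat.mul_le_mul_right _ hlt
      rcases Nat.lt_or_ge s 6 with h6 | h6
      · interval_cases s <;> omega
      · have : 6 * s ≤ s * s := Nat.mul_le_mul_right _ h6
        omega
    · have hs' : s = 3 := by omega
      have hp' : p = 3 ∧ f = 1 := by
        have : p ≤ p ^ f := Nat.le_self_pow (by omega) p
        have hp' : p = 3 := by omega
        refine ⟨hp', ?_⟩
        rw [hsdef, hp'] at hs'
        exact Nat.pow_right_injective (le_refl 2 |>.trans (by omega)) (hs'.trans (pow_one 3).symm)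
      obtain ⟨rfl, hf'⟩ := hp'
      have : e = 2 ∨ e = 3 := by omega
      rcases this with rfl | rfl
      · norm_num at h9
      · simp [hf']
  omega

end Cfsg.Agent.SL2Pres
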