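/-
A group with a root hom, a torus hom and a Weyl element is an image of `SL₂`.
-/
import Mathlib
import Cfsg.Agent.Lib.SL2Pres.Universal

namespace Cfsg.Agent.SL2Pres

open Matrix

variable {K : Type*} [Field K]

/-- the Weyl element -/
def wS (K : Type*) [Field K] : SpecialLinearGroup (Fin 2) K := ⟨!![0, 1; -1, 0], by simp [det_fin_two]⟩

/-- the diagonal torus -/
def diagS (K : Type*) [Field K] : Kˣ →* SpecialLinearGroup (Fin 2) K where
  toFun s := ⟨!![(s : K), 0; 0, ((s⁻¹ : Kˣ) : K)], by simp [det_fin_two]⟩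
  map_one' := Subtype.ext (by simp [Matrix.one_fin_two])
  map_mul' a b := Subtype.ext (by
    change _ = (!![(a : K), 0; 0, ((a⁻¹ : Kˣ) : K)] * !![(b : K), 0; 0, ((b⁻¹ : Kˣ) : K)])
    simp [Matrix.mul_fin_two, mul_comm])

theorem wS_val : (wS K : Matrix (Fin 2) (Fin 2) K) = !![0, 1; -1, 0] := rfl

theorem diagS_val (s : Kˣ) :
    (diagS K s : Matrix (Fin 2) (Fin 2) K) = !![(s : K), 0; 0, (s : K)⁻¹] := by
  rw [← Units.val_inv_eq_inv_val]; rfl

theorem up_add (a b : K) : up a * up b = up (a + b) :=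
  Subtype.ext (by simp [up_val, Matrix.mul_fin_two, add_comm])

theorem up_zero : up (0 : K) = 1 := Subtype.ext (by simp [up_val, Matrix.one_fin_two])

theorem low_eq (t : K) : wS K * up (-t) * (wS K)⁻¹ = low t := by
  rw [mul_inv_eq_iff_eq_mul]
  exact Subtype.ext (by simp [up_val, low_val, wS_val, Matrix.mul_fin_two])

theorem diagS_conj_up (s : Kˣ) (t : K) :
    diagS K s * up t * (diagS K s)⁻¹ = up ((s : K) ^ 2 * t) := by
  rw [mul_inv_eq_iff_eq_mul]
  exact Subtype.ext (by simp [up_val, diagS_val, Matrix.mul_fin_two]; field_simp)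

theorem wS_conj_diagS (s : Kˣ) : wS K * diagS K s * (wS K)⁻¹ = (diagS K s)⁻¹ := by
  rw [← map_inv, mul_inv_eq_iff_eq_mul]
  exact Subtype.ext (by simp [wS_val, diagS_val, Matrix.mul_fin_two])

theorem wS_sq : wS K * wS K = diagS K (-1) :=
  Subtype.ext (by simp [wS_val, diagS_val, Matrix.mul_fin_two, inv_neg])

theorem up_low_up (s : Kˣ) :
    up (s : K) * (wS K * up (s : K)⁻¹ * (wS K)⁻¹) * up (s : K) = diagS K s * wS K := by
  rw [show wS K * up (s : K)⁻¹ * (wS K)⁻¹ = low (-(s : K)⁻¹) by rw [← low_eq, neg_neg]]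
  exact Subtype.ext (by simp [up_val, low_val, wS_val, diagS_val, Matrix.mul_fin_two])

theorem closure_up_low : Subgroup.closure (Set.range (up (K := K)) ∪ Set.range (low (K := K))) = ⊤ := by
  rw [eq_top_iff, ← Cfsg.Agent.ClassicalSL.closure_elemTransvections, Subgroup.closure_le]
  rintro g ⟨i, j, hij, c, rfl⟩
  fin_cases i <;> fin_cases j <;> first | exact absurd rfl hij | skip
  · refine Subgroup.subset_closure (Or.inl ⟨c, Subtype.ext ?_⟩)
    rw [SpecialLinearGroup.transvection_coe]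
    ext a b
    fin_cases a <;> fin_cases b <;> simp [up_val, Matrix.single_apply]
  · refine Subgroup.subset_closure (Or.inr ⟨c, Subtype.ext ?_⟩)
    rw [SpecialLinearGroup.transvection_coe]
    ext a b
    fin_cases a <;> fin_cases b <;> simp [low_val, Matrix.single_apply]

variable [Finite K] {G : Type*} [Group G]

theorem exists_surj (X : K → G) (H : Kˣ →* G) (w : G)
    (addX : ∀ s t, X s * X t = X (s + t))
    (hHX : ∀ (s : Kˣ) (t : K), H s * X t * (H s)⁻¹ = X ((s : K) ^ 2 * t))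
    (hwH : ∀ s, w * H s * w⁻¹ = (H s)⁻¹) (hw2 : w * w = H (-1))
    (hrel : ∀ t : Kˣ, ∃ s t₀ : Kˣ, t = s ^ 2 * t₀ ∧
      X (t₀ : K) * (w * X (t₀ : K)⁻¹ * w⁻¹) * X (t₀ : K) = H t₀ * w)
    (hgen : Subgroup.closure (Set.range X ∪ Set.range H ∪ {w}) = ⊤) :
    ∃ ψ : SpecialLinearGroup (Fin 2) K →* G, Function.Surjective ψ ∧ (∀ t, ψ (up t) = X t) ∧
      ψ (wS K) = w ∧ ∀ s, ψ (diagS K s) = H s := by
  have conj_mul : ∀ g a b : G, g * (a * b) * g⁻¹ = (g * a * g⁻¹) * (g * b * g⁻¹) := fun g a b => by group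
  have hwH' : ∀ s, H s * w = w * (H s)⁻¹ := fun s => by
    have := hwH s⁻¹
    rw [map_inv, inv_inv, mul_inv_eq_iff_eq_mul] at this
    exact this.symm
  have hWall : ∀ t : Kˣ, X (t : K) * (w * X (t : K)⁻¹ * w⁻¹) * X (t : K) = H t * w := by
    intro t
    obtain ⟨s, t₀, rfl, h0⟩ := hrel t
    have e1 : X ((s ^ 2 * t₀ : Kˣ) : K) = H s * X (t₀ : K) * (H s)⁻¹ := by
      rw [hHX]; simp
    have hw' : w⁻¹ * (H s)⁻¹ = H s * w⁻¹ := by
      calc w⁻¹ * (H s)⁻¹ = w⁻¹ * (w * H s * w⁻¹) := by rw [hwH s]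
        _ = H s * w⁻¹ := by group
    have e2 : w * X ((s ^ 2 * t₀ : Kˣ) : K)⁻¹ * w⁻¹ = H s * (w * X (t₀ : K)⁻¹ * w⁻¹) * (H s)⁻¹ := by
      have : X ((s ^ 2 * t₀ : Kˣ) : K)⁻¹ = (H s)⁻¹ * X (t₀ : K)⁻¹ * H s := by
        rw [← map_inv]
        conv_rhs => arg 2; rw [← inv_inv s, map_inv]
        rw [hHX]
        congr 1
        simp [mul_comm]
      rw [this, show H s * (w * X (t₀ : K)⁻¹ * w⁻¹) * (H s)⁻¹ = (H s * w) * X (t₀ : K)⁻¹ * (w⁻¹ * (H s)⁻¹) by group,
        hwH' s, hw']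
      group
    rw [e1, e2, ← conj_mul, ← conj_mul, h0, map_mul, map_pow, pow_two]
    have hc : H s * H t₀ = H t₀ * H s := by rw [← map_mul, ← map_mul, mul_comm]
    calc H s * (H t₀ * w) * (H s)⁻¹ = H s * H t₀ * (w * (H s)⁻¹) := by group
      _ = H s * H t₀ * (H s * w) := by rw [hwH' s]
      _ = H s * (H t₀ * H s) * w := by group
      _ = H s * H s * H t₀ * w := by rw [← hc]; group
  have hm1 : H (-1) * H (-1) = 1 := by rw [← map_mul, neg_mul_neg, one_mul, map_one]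
  have hcent : ∀ t, w * w * X t = X t * (w * w) := fun t => by
    have := hHX (-1) t
    rw [Units.val_neg, Units.val_one, neg_one_sq, one_mul, mul_inv_eq_iff_eq_mul] at this
    rwa [hw2]
  let Y : K → G := fun t => w * X (-t) * w⁻¹
  have hY : ∀ t, Y t = w * X (-t) * w⁻¹ := fun t => rfl
  have hY' : ∀ t, w⁻¹ * X t * w = w * X t * w⁻¹ := fun t => by
    have h := hcent t
    calc w⁻¹ * X t * w = w⁻¹ * (X t * (w * w)) * w⁻¹ := by group
      _ = w⁻¹ * (w * w * X t) * w⁻¹ := by rw [h]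
      _ = _ := by group
  have hwt : ∀ t : K, (ht : t ≠ 0) → X t * Y (-t⁻¹) * X t = H (Units.mk0 t ht) * w := fun t ht => by
    rw [hY, neg_neg]
    exact hWall (Units.mk0 t ht)
  have hconjX : ∀ (t : K) (ht : t ≠ 0) (u : K),
      (H (Units.mk0 t ht) * w) * X u * (H (Units.mk0 t ht) * w)⁻¹ = Y (-(t⁻¹ ^ 2 * u)) := fun t ht u => by
    set s := Units.mk0 t ht
    rw [show H s * w * X u * (H s * w)⁻¹ = (H s * w) * X u * w⁻¹ * (H s)⁻¹ by group, hwH' s, hY, neg_neg,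
      ← map_inv]
    have := hHX s⁻¹ u
    rw [Units.val_inv_eq_inv_val, Units.val_mk0] at this
    rw [← this, map_inv]
    have hw' : w⁻¹ * (H s)⁻¹ = H s * w⁻¹ := by
      have := hwH s
      calc w⁻¹ * (H s)⁻¹ = w⁻¹ * (w * H s * w⁻¹) := by rw [this]
        _ = H s * w⁻¹ := by group
    calc w * (H s)⁻¹ * X u * w⁻¹ * (H s)⁻¹ = w * (H s)⁻¹ * X u * (w⁻¹ * (H s)⁻¹) := by group
      _ = _ := by rw [hw']; group
  let D : SData K G :=
    { X := X
      Y := Y
      addX := addX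
      addY := fun t u => by
        rw [hY, hY, hY, neg_add, ← addX]; group
      relX := fun t u ht => by rw [hwt t ht, hconjX t ht u]
      relY := fun t u ht => by
        have e : Y t * X (-t⁻¹) * Y t = w * (H (Units.mk0 (-t) (neg_ne_zero.2 ht)) * w) * w⁻¹ := by
          rw [← hwt (-t) (neg_ne_zero.2 ht), hY, hY]
          rw [show w * (X (-t) * (w * X (-(-(-t)⁻¹)) * w⁻¹) * X (-t)) * w⁻¹ =
            (w * X (-t) * w⁻¹) * (w * (w * X (-(-(-t)⁻¹)) * w⁻¹) * w⁻¹) * (w * X (-t) * w⁻¹) by group]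
          rw [neg_neg, inv_neg, ← hY' (-t⁻¹)]
          group
        rw [e, hY u]
        set P := H (Units.mk0 (-t) (neg_ne_zero.2 ht)) * w
        rw [show w * P * w⁻¹ * (w * X (-u) * w⁻¹) * (w * P * w⁻¹)⁻¹ = w * (P * X (-u) * P⁻¹) * w⁻¹ by group,
          hconjX, hY, ← hY', neg_neg, inv_neg, neg_sq, mul_neg]
        group }
  obtain ⟨ψ, hX, hYψ⟩ := exists_hom D
  have hw : ψ (wS K) = w := by
    have h1 := up_low_up (K := K) 1
    rw [map_one, one_mul, Units.val_one, inv_one, show wS K * up 1 * (wS K)⁻¹ = low (-1) by rw [← low_eq, neg_neg]] at h1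
    rw [← h1, map_mul, map_mul, hX, hYψ]
    change X 1 * Y (-1) * X 1 = w
    have := hWall 1
    rw [Units.val_one, inv_one, map_one, one_mul] at this
    rw [hY, neg_neg, this]
  have hdiag : ∀ s : Kˣ, ψ (diagS K s) = H s := fun s => by
    have h1 := congrArg ψ (up_low_up s)
    rw [map_mul, map_mul, map_mul, map_mul, map_mul, map_inv, hX, hX, hw] at h1
    change X (s : K) * (w * X (s : K)⁻¹ * w⁻¹) * X (s : K) = _ at h1
    rw [hWall s] at h1
    exact (mul_right_cancel h1).symm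
  refine ⟨ψ, ?_, hX, hw, hdiag⟩
  rw [← MonoidHom.range_eq_top, eq_top_iff, ← hgen, Subgroup.closure_le]
  rintro g ((⟨t, rfl⟩ | ⟨s, rfl⟩) | rfl)
  · exact ⟨up t, hX t⟩
  · exact ⟨diagS K s, hdiag s⟩
  · exact ⟨wS K, hw⟩

end Cfsg.Agent.SL2Pres
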