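/-
Short presentations of `SL₂(q)` and `PSL₂(q)`.
-/
import Mathlib
import Cfsg.Agent.Lib.SL2Pres.Additive
import Cfsg.Agent.Lib.SL2Pres.Torus
import Cfsg.Agent.Lib.SL2Pres.FieldGen

namespace Cfsg.Agent.SL2Pres

open Polynomial

universe u

/-- generators -/
def gX : FreeGroup (Fin 3) := FreeGroup.of 0
/-- generators -/
def gH : FreeGroup (Fin 3) := FreeGroup.of 1
/-- generators -/
def gW : FreeGroup (Fin 3) := FreeGroup.of 2

theorem lift_gX {G : Type*} [Group G] (v : Fin 3 → G) : FreeGroup.lift v gX = v 0 := FreeGroup.lift_apply_of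
theorem lift_gH {G : Type*} [Group G] (v : Fin 3 → G) : FreeGroup.lift v gH = v 1 := FreeGroup.lift_apply_of
theorem lift_gW {G : Type*} [Group G] (v : Fin 3 → G) : FreeGroup.lift v gW = v 2 := FreeGroup.lift_apply_of

variable {K : Type u} [Field K]

theorem up_zpow (a : K) (n : ℤ) : up a ^ n = up ((n : K) * a) := by
  let f : Multiplicative K →* Matrix.SpecialLinearGroup (Fin 2) K :=
    { toFun := fun t => up t.toAdd, map_one' := up_zero, map_mul' := fun x y => (up_add _ _).symm }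
  have := (map_zpow f (Multiplicative.ofAdd a) n).symm
  simpa [f] using this

theorem cj_up (j : Kˣ) (a : K) (n : ℤ) :
    cj (up a) (diagS K j) n = up (((j ^ (2 * n) : Kˣ) : K) * a) := by
  rw [cj, ← map_zpow, diagS_conj_up, mul_comm 2 n, _root_.zpow_mul]
  norm_num [zpow_two, pow_two]

theorem word_up (j : Kˣ) (β : ℤ) (P : ℤ[X]) :
    word (up 1) (diagS K j) β P = up (aeval ((j ^ (2 * β) : Kˣ) : K) P) := by
  have key : ∀ n, ((List.range n).map fun i : ℕ => cj (up (1 : K)) (diagS K j) ((i : ℤ) * β) ^ P.coeff i).prod =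
      up (∑ i ∈ Finset.range n, (P.coeff i : K) * ((j ^ (2 * β) : Kˣ) : K) ^ i) := by
    intro n
    induction n with
    | zero => simp [up_zero]
    | succ n ih =>
      rw [Finset.sum_range_succ, ← up_add, ← ih, List.range_succ, List.map_append, List.prod_append]
      congr 1
      simp only [List.map_cons, List.map_nil, List.prod_cons, List.prod_nil, mul_one]
      rw [cj_up, up_zpow, mul_one, ← Units.val_pow_eq_pow_val, ← zpow_natCast (j ^ (2 * β)), ← _root_.zpow_mul]
      rw [show 2 * ((n : ℤ) * β) = 2 * β * (n : ℤ) by ring]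
  rw [word, key, aeval_eq_sum_range]
  simp [zsmul_eq_mul]

theorem gen_triple (j : Kˣ) (β : ℤ) (hB : Algebra.adjoin ℤ {((j ^ (2 * β) : Kˣ) : K)} = (⊤ : Subalgebra ℤ K)) :
    Subgroup.closure ({up (1 : K), diagS K j, wS K} : Set (Matrix.SpecialLinearGroup (Fin 2) K)) = ⊤ := by
  set S := Subgroup.closure ({up (1 : K), diagS K j, wS K} : Set (Matrix.SpecialLinearGroup (Fin 2) K))
  have h1 : up (1 : K) ∈ S := Subgroup.subset_closure (by simp)
  have h2 : diagS K j ∈ S := Subgroup.subset_closure (by simp)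
  have h3 : wS K ∈ S := Subgroup.subset_closure (by simp)
  have hup : ∀ t, up t ∈ S := by
    intro t
    have ht : t ∈ Algebra.adjoin ℤ {((j ^ (2 * β) : Kˣ) : K)} := hB ▸ Algebra.mem_top
    rw [Algebra.adjoin_singleton_eq_range_aeval] at ht
    obtain ⟨P, rfl⟩ := ht
    rw [show (aeval ((j ^ (2 * β) : Kˣ) : K)).toRingHom P = aeval ((j ^ (2 * β) : Kˣ) : K) P from rfl, ← word_up]
    refine Subgroup.list_prod_mem _ fun a ha => ?_
    obtain ⟨i, -, rfl⟩ := List.mem_map.1 ha
    exact Subgroup.zpow_mem _ (mul_mem (mul_mem (Subgroup.zpow_mem _ h2 _) h1) (inv_mem (Subgroup.zpow_mem _ h2 _))) _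
  rw [eq_top_iff, ← closure_up_low, Subgroup.closure_le]
  rintro g (⟨t, rfl⟩ | ⟨t, rfl⟩)
  · exact hup t
  · rw [SetLike.mem_coe, ← low_eq]
    exact mul_mem (mul_mem h3 (hup _)) (inv_mem h3)

/-- The outcome of the relations defining the root group. -/
def RootData {G : Type} [Group G] (j : Kˣ) (β : ℤ) (x h : G) : Prop :=
  ∃ X : K → G, (∀ s t, X s * X t = X (s + t)) ∧ X 1 = x ∧
    (∀ t, h * X t * h⁻¹ = X ((j : K) ^ 2 * t)) ∧
    ∀ P : ℤ[X], X (aeval ((j ^ (2 * β) : Kˣ) : K) P) = word x h β P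

/-- A set of at most `N` relations defining the root group and the relation `hⁿ = 1`. -/
def UPart (j : Kˣ) (n N : ℕ) : Prop :=
  ∃ (R : Finset (FreeGroup (Fin 3))) (β : ℤ), R.card ≤ N ∧
    Algebra.adjoin ℤ {((j ^ (2 * β) : Kˣ) : K)} = (⊤ : Subalgebra ℤ K) ∧
    (∀ (T : Type u) [Group T] (mk : Matrix.SpecialLinearGroup (Fin 2) K →* T), mk (diagS K j) ^ n = 1 →
      ∀ r ∈ R, FreeGroup.lift ![mk (up 1), mk (diagS K j), mk (wS K)] r = 1) ∧
    ∀ (G : Type) [Group G] (v : Fin 3 → G), (∀ r ∈ R, FreeGroup.lift v r = 1) →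
      v 1 ^ n = 1 ∧ RootData j β (v 0) (v 1)

variable (p : ℕ) [Fact p.Prime] [CharP K p] (j : Kˣ) (n : ℕ)

section
variable [Fintype K]

theorem aeval_adjoin_eq_top (B : K) (hB : Algebra.adjoin ℤ {B} = (⊤ : Subalgebra ℤ K)) (t : K) :
    ∃ P : ℤ[X], aeval B P = t := by
  have ht : t ∈ Algebra.adjoin ℤ {B} := hB ▸ Algebra.mem_top
  rwa [Algebra.adjoin_singleton_eq_range_aeval] at ht

/-- The prime field. -/
theorem upart_prime (hq : Fintype.card K = p) : UPart j n 3 := by
  classical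
  have hB0 : ((j ^ (2 * (0 : ℤ)) : Kˣ) : K) = 1 := by simp
  have hB : Algebra.adjoin ℤ {(1 : K)} = (⊤ : Subalgebra ℤ K) :=
    adjoin_int_eq_top p (e := 1) (by rw [hq, pow_one]) 1 (fun d _ _ => by omega)
  obtain ⟨g, hg⟩ := aeval_adjoin_eq_top 1 hB ((j : K) ^ 2)
  obtain ⟨f, hf0, hf⟩ := exists_minimal_lift p (1 : K)
  refine ⟨{gX ^ p, gH * gX * gH⁻¹ * (word gX gH 0 g)⁻¹, gH ^ n}, 0, Finset.card_le_three, hB0 ▸ hB, ?_, ?_⟩
  · intro T _ mk hn r hr
    simp only [Finset.mem_insert, Finset.mem_singleton] at hr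
    rcases hr with rfl | rfl | rfl
    · rw [map_pow, lift_gX, Matrix.cons_val_zero, ← map_pow, ← zpow_natCast, up_zpow]
      simp [up_zero]
    · simp only [map_mul, map_inv, map_word, lift_gX, lift_gH, Matrix.cons_val_zero, Matrix.cons_val_one]
      rw [← map_word, word_up, ← map_inv, ← map_mul, ← map_mul, diagS_conj_up, hB0, hg, mul_one, mul_inv_cancel]
    · rw [map_pow, lift_gH]; simpa using hn
  · intro G _ v hv
    have h1 : v 0 ^ p = 1 := by simpa [lift_gX] using hv (gX ^ p) (by simp)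
    have h2 : v 1 * v 0 * (v 1)⁻¹ = word (v 0) (v 1) 0 g := by
      have := hv (gH * gX * gH⁻¹ * (word gX gH 0 g)⁻¹) (by simp)
      simpa [map_word, lift_gX, lift_gH, mul_inv_eq_one] using this
    have h3 : v 1 ^ n = 1 := by simpa [lift_gH] using hv (gH ^ n) (by simp)
    refine ⟨h3, ?_⟩
    have hc : ∀ i : ℤ, Commute (v 0) (cj (v 0) (v 1) (i * 0)) := fun i => by
      rw [mul_zero, cj_zero]
    have hword : ∀ P : ℤ[X], word (v 0) (v 1) 0 P = v 0 ^ P.eval 1 := by
      intro P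
      have key : ∀ N, ((List.range N).map fun i : ℕ => cj (v 0) (v 1) ((i : ℤ) * 0) ^ P.coeff i).prod =
          v 0 ^ (∑ i ∈ Finset.range N, P.coeff i) := by
        intro N
        induction N with
        | zero => simp
        | succ N ih =>
          rw [Finset.sum_range_succ, _root_.zpow_add, List.range_succ, List.map_append, List.prod_append, ih]
          simp [cj_zero]
      rw [word, key]
      congr 1
      simp [eval_eq_sum_range]
    have hfx : word (v 0) (v 1) 0 f = 1 := by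
      rw [hword]
      obtain ⟨c, hc'⟩ : (p : ℤ) ∣ f.eval 1 := by
        rw [← CharP.intCast_eq_zero_iff K p]
        have e : ((f.eval 1 : ℤ) : K) = aeval (1 : K) f := by
          rw [aeval_def, eval₂_at_one]; rfl
        rw [e, hf0]
      rw [hc', _root_.zpow_mul, zpow_natCast, h1, one_zpow]
    obtain ⟨X, hX1, hX2, hX3, hX4⟩ := exists_root_hom (p := p) hB hf hg hc h1 hfx h2
    exact ⟨X, hX1, hX2, hX3, by rw [hB0]; exact hX4⟩

/-- The field with nine elements. -/
theorem upart_nine (hj : orderOf j = 8) (hq : Fintype.card K = 9) (hp : p = 3) : UPart j n 5 := by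
  classical
  set B : K := ((j ^ (2 * (1 : ℤ)) : Kˣ) : K) with hBdef
  have hBj : B = (j : K) ^ 2 := by simp [hBdef, zpow_two, pow_two]
  have hB2 : B ^ 2 = -1 := by
    have h8 : ((j : K) ^ 4) ^ 2 = 1 := by
      rw [← pow_mul, show 4 * 2 = orderOf j by rw [hj], ← Units.val_pow_eq_pow_val, pow_orderOf_eq_one, Units.val_one]
    rw [hBj, ← pow_mul]
    refine (sq_eq_one_iff.1 h8).resolve_left fun h => ?_
    have h4 : j ^ 4 = 1 := Units.ext (by simpa using h)
    have := Nat.le_of_dvd (by norm_num) (orderOf_dvd_of_pow_eq_one h4)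
    omega
  have h2 : (2 : K) ≠ 0 := Ring.two_ne_zero (by rw [ringChar.eq K p, hp]; norm_num)
  have hB : Algebra.adjoin ℤ {B} = (⊤ : Subalgebra ℤ K) := by
    refine adjoin_int_eq_top p (e := 2) (by rw [hq, hp]; norm_num) B fun d hd1 hd2 h => ?_
    obtain rfl : d = 1 := by omega
    rw [pow_one, hp, pow_succ, hB2] at h
    have hB0 : B ≠ 0 := fun e => by simp [e] at hB2
    exact hB0 ((mul_eq_zero.1 (show (2 : K) * B = 0 by linear_combination -h)).resolve_left h2)
  obtain ⟨f, hf0, hf⟩ := exists_minimal_lift p B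
  set r1 : FreeGroup (Fin 3) := gX * cj gX gH 1 * (cj gX gH 1 * gX)⁻¹ with hr1
  set r2 : FreeGroup (Fin 3) := cj gX gH 2 * gX with hr2
  refine ⟨{gX ^ p, r1, r2, word gX gH 1 f, gH ^ n}, 1, Finset.card_le_five, hB, ?_, ?_⟩
  · intro T _ mk hn r hr
    simp only [Finset.mem_insert, Finset.mem_singleton] at hr
    rcases hr with rfl | rfl | rfl | rfl | rfl
    · rw [map_pow, lift_gX, Matrix.cons_val_zero, ← map_pow, ← zpow_natCast, up_zpow]
      simp [up_zero]
    · simp only [hr1, map_mul, map_inv, map_cj, lift_gX, lift_gH, Matrix.cons_val_zero, Matrix.cons_val_one]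
      rw [← map_cj, cj_up, mul_inv_eq_one, ← map_mul, ← map_mul, up_add, up_add, add_comm]
    · simp only [hr2, map_mul, map_cj, lift_gX, lift_gH, Matrix.cons_val_zero, Matrix.cons_val_one]
      rw [← map_cj, cj_up, ← map_mul, up_add, mul_one]
      have : ((j ^ (2 * (2 : ℤ)) : Kˣ) : K) = -1 := by
        rw [← hB2, hBdef, ← Units.val_pow_eq_pow_val, ← zpow_natCast (j ^ (2 * (1 : ℤ))), ← _root_.zpow_mul]
        norm_num
      rw [this, neg_add_cancel, up_zero, map_one]
    · simp only [map_word, lift_gX, lift_gH, Matrix.cons_val_zero, Matrix.cons_val_one]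
      rw [← map_word, word_up, ← hBdef, hf0, up_zero, map_one]
    · rw [map_pow, lift_gH]; simpa using hn
  · intro G _ v hv
    have h1 : v 0 ^ p = 1 := by simpa [lift_gX] using hv (gX ^ p) (by simp)
    have hcomm : Commute (v 0) (cj (v 0) (v 1) 1) := by
      have := hv r1 (by simp)
      simp only [hr1, map_mul, map_inv, map_cj, lift_gX, lift_gH, mul_inv_eq_one] at this
      exact this
    have hc2 : cj (v 0) (v 1) 2 = (v 0)⁻¹ := by
      have := hv r2 (by simp)
      simp only [hr2, map_mul, map_cj, lift_gX, lift_gH] at this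
      exact eq_inv_of_mul_eq_one_left this
    have hfx : word (v 0) (v 1) 1 f = 1 := by
      simpa [map_word, lift_gX, lift_gH] using hv (word gX gH 1 f) (by simp)
    have h5 : v 1 ^ n = 1 := by simpa [lift_gH] using hv (gH ^ n) (by simp)
    have hstep : ∀ k : ℤ, cj (v 0) (v 1) (k + 2) = (cj (v 0) (v 1) k)⁻¹ := fun k => by
      rw [← cj_shift, hc2]
      simp [cj, mul_assoc]
    have hnat : ∀ k : ℕ, Commute (v 0) (cj (v 0) (v 1) (k : ℤ)) := by
      intro k
      induction k using Nat.twoStepInduction with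
      | zero => simp [cj_zero]
      | one => simpa using hcomm
      | more k ih _ =>
        have := ih.inv_right
        rw [← hstep] at this
        simpa [Nat.cast_add] using this
    have hc : ∀ i : ℤ, Commute (v 0) (cj (v 0) (v 1) (i * 1)) := fun i => by
      rw [mul_one]
      rcases le_total 0 i with hi | hi
      · obtain ⟨k, rfl⟩ := Int.eq_ofNat_of_zero_le hi
        exact hnat k
      · obtain ⟨k, hk⟩ := Int.eq_ofNat_of_zero_le (neg_nonneg.2 hi)
        have := commute_conj (v 1 ^ i) (hnat k)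
        rw [show v 1 ^ i * v 0 * (v 1 ^ i)⁻¹ = cj (v 0) (v 1) i from rfl, cj_shift,
          show i + (k : ℤ) = 0 by omega, cj_zero] at this
        exact this.symm
    have hg : v 1 * v 0 * (v 1)⁻¹ = word (v 0) (v 1) 1 Polynomial.X := by
      simp [word, List.range_succ, cj, coeff_X]
    obtain ⟨X, hX1, hX2, hX3, hX4⟩ := exists_root_hom (p := p) (u := (j : K) ^ 2) hB hf
      (by rw [aeval_X, hBj]) hc h1 hfx hg
    exact ⟨h5, X, hX1, hX2, hX3, hX4⟩

/-- A trinomial relation. -/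
theorem upart_trinomial (α β : ℤ)
    (hB : Algebra.adjoin ℤ {((j ^ (2 * β) : Kˣ) : K)} = (⊤ : Subalgebra ℤ K))
    (hA : ((j ^ (2 * α) : Kˣ) : K) = 1 + ((j ^ (2 * β) : Kˣ) : K)) :
    UPart j n 5 ∧ (p = 2 → β = 1 → UPart j n 3) := by
  classical
  set B : K := ((j ^ (2 * β) : Kˣ) : K) with hBdef
  obtain ⟨f, hf0, hf⟩ := exists_minimal_lift p B
  obtain ⟨g, hg⟩ := aeval_adjoin_eq_top B hB ((j : K) ^ 2)
  set r1 : FreeGroup (Fin 3) := gX * cj gX gH β * (cj gX gH β * gX)⁻¹ with hr1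
  set r2 : FreeGroup (Fin 3) := cj gX gH α * (gX * cj gX gH β)⁻¹ with hr2
  set r3 : FreeGroup (Fin 3) := gH * gX * gH⁻¹ * (word gX gH β g)⁻¹ with hr3
  set r4 : FreeGroup (Fin 3) := gH ^ n * word gX gH β f with hr4
  -- the relations hold in the target
  have hold : ∀ (T : Type u) [Group T] (mk : Matrix.SpecialLinearGroup (Fin 2) K →* T), mk (diagS K j) ^ n = 1 →
      ∀ r ∈ ({gX ^ p, r1, r2, r3, r4} : Finset (FreeGroup (Fin 3))),
        FreeGroup.lift ![mk (up 1), mk (diagS K j), mk (wS K)] r = 1 := by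
    intro T _ mk hn r hr
    simp only [Finset.mem_insert, Finset.mem_singleton] at hr
    rcases hr with rfl | rfl | rfl | rfl | rfl
    · rw [map_pow, lift_gX, Matrix.cons_val_zero, ← map_pow, ← zpow_natCast, up_zpow]
      simp [up_zero]
    · simp only [hr1, map_mul, map_inv, map_cj, lift_gX, lift_gH, Matrix.cons_val_zero, Matrix.cons_val_one]
      rw [← map_cj, cj_up, mul_inv_eq_one, ← map_mul, ← map_mul, up_add, up_add, add_comm]
    · simp only [hr2, map_mul, map_inv, map_cj, lift_gX, lift_gH, Matrix.cons_val_zero, Matrix.cons_val_one]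
      rw [← map_cj, ← map_cj, cj_up, cj_up, mul_inv_eq_one, ← map_mul, up_add, mul_one, mul_one, hA]
    · simp only [hr3, map_mul, map_inv, map_word, lift_gX, lift_gH, Matrix.cons_val_zero, Matrix.cons_val_one]
      rw [← map_word, word_up, ← map_inv, ← map_mul, ← map_mul, diagS_conj_up, ← hBdef, hg, mul_one, mul_inv_cancel]
    · simp only [hr4, map_mul, map_pow, map_word, lift_gX, lift_gH, Matrix.cons_val_zero, Matrix.cons_val_one]
      rw [← map_word, word_up, ← hBdef, hf0, up_zero, map_one, mul_one]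
      exact hn
  -- the consequences in an arbitrary group
  have cons : ∀ (G : Type) [Group G] (v : Fin 3 → G) (g' : ℤ[X]), aeval B g' = (j : K) ^ 2 →
      v 0 ^ p = 1 → Commute (v 0) (cj (v 0) (v 1) β) →
      cj (v 0) (v 1) α = v 0 * cj (v 0) (v 1) β →
      v 1 * v 0 * (v 1)⁻¹ = word (v 0) (v 1) β g' →
      v 1 ^ n * word (v 0) (v 1) β f = 1 → v 1 ^ n = 1 ∧ RootData j β (v 0) (v 1) := by
    intro G _ v g' hg' h1 h2 h3 h4 h5
    have hc := commute_all_of_trinomial h2 h3
    have hcw : Commute (v 1) (word (v 0) (v 1) β f) := by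
      rw [eq_inv_of_mul_eq_one_right h5]
      exact ((Commute.refl (v 1)).pow_right n).inv_right
    have hfx := eq_one_of_commute (v 0) (v 1) β hc h3 (word_mem_span _ _ _ f) hcw
    rw [hfx, mul_one] at h5
    obtain ⟨X, hX⟩ := exists_root_hom (p := p) hB hf hg' hc h1 hfx h4
    exact ⟨h5, X, hX⟩
  constructor
  · refine ⟨{gX ^ p, r1, r2, r3, r4}, β, Finset.card_le_five, hB, hold, fun G _ v hv => ?_⟩
    refine cons G v g hg (by simpa [lift_gX] using hv (gX ^ p) (by simp)) ?_ ?_ ?_ ?_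
    · have := hv r1 (by simp)
      simp only [hr1, map_mul, map_inv, map_cj, lift_gX, lift_gH, mul_inv_eq_one] at this
      exact this
    · have := hv r2 (by simp)
      simpa only [hr2, map_mul, map_inv, map_cj, lift_gX, lift_gH, mul_inv_eq_one] using this
    · have := hv r3 (by simp)
      simpa only [hr3, map_mul, map_inv, map_word, lift_gX, lift_gH, mul_inv_eq_one] using this
    · have := hv r4 (by simp)
      simpa only [hr4, map_mul, map_pow, map_word, lift_gX, lift_gH] using this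
  · intro hp hβ
    refine ⟨{gX ^ p, r2, r4}, β, Finset.card_le_three, hB, fun T _ mk hn r hr => hold T mk hn r (by
      simp only [Finset.mem_insert, Finset.mem_singleton] at hr ⊢; tauto), fun G _ v hv => ?_⟩
    have h1 : v 0 ^ p = 1 := by simpa [lift_gX] using hv (gX ^ p) (by simp)
    have h3 : cj (v 0) (v 1) α = v 0 * cj (v 0) (v 1) β := by
      have := hv r2 (by simp)
      simpa only [hr2, map_mul, map_inv, map_cj, lift_gX, lift_gH, mul_inv_eq_one] using this
    have h0 : v 0 * v 0 = 1 := by subst hp; simpa [pow_two] using h1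
    have hsq : ∀ k, cj (v 0) (v 1) k * cj (v 0) (v 1) k = 1 := fun k => by
      simp only [cj]
      rw [show v 1 ^ k * v 0 * (v 1 ^ k)⁻¹ * (v 1 ^ k * v 0 * (v 1 ^ k)⁻¹) = v 1 ^ k * (v 0 * v 0) * (v 1 ^ k)⁻¹ by group,
        h0, mul_one, mul_inv_cancel]
    refine cons G v Polynomial.X (by rw [aeval_X, hBdef, hβ]; simp [zpow_two, pow_two]) h1 ?_ h3 ?_
      (by simpa only [hr4, map_mul, map_pow, map_word, lift_gX, lift_gH] using hv r4 (by simp))
    · have := hsq α
      rw [h3, mul_eq_one_iff_eq_inv, _root_.mul_inv_rev, inv_eq_of_mul_eq_one_right h0,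
        inv_eq_of_mul_eq_one_right (hsq β)] at this
      exact this
    · rw [hβ]; simp [word, List.range_succ, cj, coeff_X]

end

variable [Fintype K]

/-- The presentation given by a root part and Weyl relations. -/
theorem assemble {j : Kˣ} (hj : ∀ t, t ∈ Subgroup.zpowers j) {n N : ℕ} (hU : UPart j n N)
    {T : Type u} [Group T] (mk : Matrix.SpecialLinearGroup (Fin 2) K →* T) (hmk : Function.Surjective mk)
    (hker : ∀ s, mk s = 1 → s = 1 ∨ (s = wS K * wS K ∧ mk (wS K) * mk (wS K) = 1))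
    (hmn : mk (diagS K j) ^ n = 1) (hn : n ∣ Fintype.card K - 1)
    (k : ℕ) (hk : j ^ k = -1) (hk1 : mk (wS K) * mk (wS K) = 1 → n ∣ k)
    (R : ℤ → Finset (FreeGroup (Fin 3))) (M : ℕ) (hR : ∀ β, (R β).card ≤ M)
    (hRT : ∀ β, Algebra.adjoin ℤ {((j ^ (2 * β) : Kˣ) : K)} = (⊤ : Subalgebra ℤ K) →
      ∀ r ∈ R β, FreeGroup.lift ![mk (up 1), mk (diagS K j), mk (wS K)] r = 1)
    (hRG : ∀ β, Algebra.adjoin ℤ {((j ^ (2 * β) : Kˣ) : K)} = (⊤ : Subalgebra ℤ K) →
      ∀ (G : Type) [Group G] (v : Fin 3 → G), (∀ r ∈ R β, FreeGroup.lift v r = 1) → v 1 ^ n = 1 →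
      RootData j β (v 0) (v 1) → v 2 * v 1 * (v 2)⁻¹ = (v 1)⁻¹ ∧ v 2 * v 2 = v 1 ^ k ∧
      ∀ X : K → G, (∀ s t, X s * X t = X (s + t)) → X 1 = v 0 →
        (∀ P : ℤ[X], X (aeval ((j ^ (2 * β) : Kˣ) : K) P) = word (v 0) (v 1) β P) →
        ∀ H : Kˣ →* G, H j = v 1 → ∀ t : Kˣ, ∃ s t₀ : Kˣ, t = s ^ 2 * t₀ ∧
          X (t₀ : K) * (v 2 * X (t₀ : K)⁻¹ * (v 2)⁻¹) * X (t₀ : K) = H t₀ * v 2) :
    ∃ rels : Finset (FreeGroup (Fin 3)), rels.card ≤ N + M ∧
      Nonempty (PresentedGroup (↑rels : Set (FreeGroup (Fin 3))) ≃* T) := by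
  classical
  obtain ⟨U, β, hUc, hB, hUT, hUG⟩ := hU
  refine ⟨U ∪ R β, (Finset.card_union_le _ _).trans (add_le_add hUc (hR β)), ?_⟩
  set rels : Set (FreeGroup (Fin 3)) := ↑(U ∪ R β) with hrels
  let vT : Fin 3 → T := ![mk (up 1), mk (diagS K j), mk (wS K)]
  have hT : ∀ r ∈ rels, FreeGroup.lift vT r = 1 := fun r hr => by
    rcases Finset.mem_union.1 (Finset.mem_coe.1 hr) with h | h
    · exact hUT T mk hmn r h
    · exact hRT β hB r h
  let π := PresentedGroup.toGroup hT
  let v : Fin 3 → PresentedGroup rels := PresentedGroup.of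
  have hv : ∀ r ∈ U ∪ R β, FreeGroup.lift v r = 1 := fun r hr => by
    have e : FreeGroup.lift v = PresentedGroup.mk rels := FreeGroup.ext_hom _ _ fun i => by
      rw [FreeGroup.lift_apply_of]; rfl
    rw [e]
    exact PresentedGroup.one_of_mem (Finset.mem_coe.2 hr)
  obtain ⟨hvn, hdata⟩ := hUG _ v fun r hr => hv r (Finset.mem_union_left _ hr)
  obtain ⟨hwh, hww, hrel⟩ := hRG β hB _ v (fun r hr => hv r (Finset.mem_union_right _ hr)) hvn hdata
  obtain ⟨X, hX1, hX2, hX3, hX4⟩ := hdata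
  have hord : orderOf j = Fintype.card K - 1 := by
    rw [orderOf_eq_card_of_forall_mem_zpowers hj, Nat.card_eq_fintype_card, Fintype.card_units]
  let H : Kˣ →* PresentedGroup rels := monoidHomOfForallMemZpowers hj (g' := v 1) (by
    rw [hord]; exact (orderOf_dvd_of_pow_eq_one hvn).trans hn)
  have hHj : H j = v 1 := monoidHomOfForallMemZpowers_apply_gen hj _
  have hsurjH : ∀ s : Kˣ, ∃ i : ℕ, s = j ^ i := fun s => by
    obtain ⟨i, hi⟩ := mem_powers_iff_mem_zpowers.2 (hj s)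
    exact ⟨i, hi.symm⟩
  have hHX : ∀ (s : Kˣ) (t : K), H s * X t * (H s)⁻¹ = X ((s : K) ^ 2 * t) := by
    intro s t
    obtain ⟨i, rfl⟩ := hsurjH s
    rw [map_pow, hHj]
    induction i generalizing t with
    | zero => simp
    | succ i ih =>
      rw [pow_succ (v 1), show v 1 ^ i * v 1 * X t * (v 1 ^ i * v 1)⁻¹ = v 1 ^ i * (v 1 * X t * (v 1)⁻¹) * (v 1 ^ i)⁻¹ by group,
        hX3, ih]
      congr 1
      simp only [Units.val_pow_eq_pow_val]
      ring
  have hwH : ∀ s, v 2 * H s * (v 2)⁻¹ = (H s)⁻¹ := fun s => by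
    obtain ⟨i, rfl⟩ := hsurjH s
    rw [map_pow, hHj, ← conj_pow, hwh, inv_pow]
  have hw2 : v 2 * v 2 = H (-1) := by rw [hww, ← hk, map_pow, hHj]
  have hgen : Subgroup.closure (Set.range X ∪ Set.range H ∪ {v 2}) = ⊤ := by
    rw [eq_top_iff, ← PresentedGroup.closure_range_of rels, Subgroup.closure_le]
    rintro g ⟨i, rfl⟩
    fin_cases i
    · exact Subgroup.subset_closure (Or.inl (Or.inl ⟨1, hX2⟩))
    · exact Subgroup.subset_closure (Or.inl (Or.inr ⟨j, hHj⟩))
    · exact Subgroup.subset_closure (Or.inr rfl)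
  obtain ⟨ψ, hψs, hψX, hψw, hψd⟩ := exists_surj X H (v 2) hX1 hHX hwH hw2 (hrel X hX1 hX2 hX4 H hHj) hgen
  have hcomp : π.comp ψ = mk := by
    refine MonoidHom.eq_of_eqOn_dense (gen_triple j β hB) fun s hs => ?_
    simp only [Set.mem_insert_iff, Set.mem_singleton_iff] at hs
    rw [MonoidHom.comp_apply]
    rcases hs with rfl | rfl | rfl
    · rw [hψX, hX2]; exact PresentedGroup.toGroup.of hT
    · rw [hψd, hHj]; exact PresentedGroup.toGroup.of hT
    · rw [hψw]; exact PresentedGroup.toGroup.of hT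
  refine ⟨MulEquiv.ofBijective π ⟨?_, ?_⟩⟩
  · rw [← MonoidHom.ker_eq_bot_iff, Subgroup.eq_bot_iff_forall]
    intro g hg
    obtain ⟨s, rfl⟩ := hψs g
    have hs : mk s = 1 := by rw [← hcomp]; exact hg
    rcases hker s hs with rfl | ⟨rfl, hww'⟩
    · exact map_one ψ
    · rw [map_mul, hψw, hww]
      obtain ⟨c, hc⟩ := hk1 hww'
      rw [hc, pow_mul, hvn, one_pow]
  · intro t
    obtain ⟨s, rfl⟩ := hmk t
    exact ⟨ψ s, DFunLike.congr_fun hcomp s⟩

end Cfsg.Agent.SL2Pres
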