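/-
`SL₂(q)`, `PSL₂(q)`: presentations with three generators and at most nine (five, in characteristic two) relations.
-/
import Mathlib
import Cfsg.Agent.Lib.SL2Pres.Short

namespace Cfsg.Agent.SL2Pres

open Polynomial

universe u

variable {K : Type u} [Field K] [Fintype K]

theorem center_cases {s : Matrix.SpecialLinearGroup (Fin 2) K}
    (hs : s ∈ Subgroup.center (Matrix.SpecialLinearGroup (Fin 2) K)) : s = 1 ∨ s = wS K * wS K := by
  obtain ⟨r, hr, hrs⟩ := Matrix.SpecialLinearGroup.mem_center_iff.1 hs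
  rw [Fintype.card_fin] at hr
  rcases sq_eq_one_iff.1 hr with rfl | rfl
  · exact Or.inl (Subtype.ext (by rw [← hrs]; simp))
  · refine Or.inr ?_
    rw [wS_sq]
    apply Subtype.ext
    rw [← hrs, diagS_val]
    ext a b
    fin_cases a <;> fin_cases b <;> simp [Matrix.scalar_apply]

theorem wS_sq_central :
    wS K * wS K ∈ Subgroup.center (Matrix.SpecialLinearGroup (Fin 2) K) := by
  refine Matrix.SpecialLinearGroup.mem_center_iff.2 ⟨-1, by simp, ?_⟩
  rw [wS_sq, diagS_val]
  ext a b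
  fin_cases a <;> fin_cases b <;> simp [Matrix.scalar_apply]

/-- The projection to `PSL₂`. -/
def toPSL (K : Type u) [Field K] :
    Matrix.SpecialLinearGroup (Fin 2) K →* Matrix.ProjectiveSpecialLinearGroup (Fin 2) K :=
  QuotientGroup.mk' _

theorem toPSL_eq_one {s : Matrix.SpecialLinearGroup (Fin 2) K} :
    toPSL K s = 1 ↔ s ∈ Subgroup.center (Matrix.SpecialLinearGroup (Fin 2) K) :=
  QuotientGroup.eq_one_iff s

theorem toPSL_surjective : Function.Surjective (toPSL K) := QuotientGroup.mk'_surjective _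

theorem exists_gen : ∃ j : Kˣ, (∀ t, t ∈ Subgroup.zpowers j) ∧ orderOf j = Fintype.card K - 1 := by
  classical
  obtain ⟨j, hj⟩ := IsCyclic.exists_generator (α := Kˣ)
  exact ⟨j, hj, by rw [orderOf_eq_card_of_forall_mem_zpowers hj, Nat.card_eq_fintype_card, Fintype.card_units]⟩

theorem upart_odd (p : ℕ) [Fact p.Prime] [CharP K p] (hp : p ≠ 2) (j : Kˣ) (hj : ∀ t, t ∈ Subgroup.zpowers j)
    (hord : orderOf j = Fintype.card K - 1) (n : ℕ) : UPart j n 5 := by
  obtain ⟨e, -, hq⟩ := FiniteField.card K p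
  by_cases he : (e : ℕ) = 1
  · obtain ⟨R, β, hc, h⟩ := upart_prime p j n (by rw [hq, he, pow_one])
    exact ⟨R, β, hc.trans (by norm_num), h⟩
  by_cases h9 : Fintype.card K = 9
  · have hp3 : p = 3 := by
      rw [h9] at hq
      have : p ∣ 3 ^ 2 := ⟨p ^ ((e : ℕ) - 1), by
        rw [← pow_succ', Nat.sub_add_cancel e.pos, ← hq]; norm_num⟩
      exact (Nat.prime_dvd_prime_iff_eq (Fact.out) Nat.prime_three).1 ((Fact.out : p.Prime).dvd_of_dvd_pow this)
    exact upart_nine p j n (by rw [hord, h9]) h9 hp3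
  obtain ⟨B, c, d, hc, hd, hBc, hBd, hB⟩ := exists_square_pair p hq hp (by have := e.pos; omega) h9
  obtain ⟨β, hβ⟩ := hj (Units.mk0 c hc)
  obtain ⟨α, hα⟩ := hj (Units.mk0 d hd)
  have hval : ∀ (γ : ℤ) (x : K) (hx : x ≠ 0), j ^ γ = Units.mk0 x hx → ((j ^ (2 * γ) : Kˣ) : K) = x ^ 2 := by
    intro γ x hx h
    rw [mul_comm, zpow_mul, h]
    simp [zpow_two, pow_two]
  refine (upart_trinomial p j n α β ?_ ?_).1
  · rw [hval β c hc hβ, ← hBc]; exact hB
  · rw [hval α d hd hα, hval β c hc hβ, ← hBc, ← hBd, add_comm]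

/-- odd characteristic -/
theorem odd_case (p : ℕ) [Fact p.Prime] [CharP K p] (hp : p ≠ 2) {T : Type u} [Group T]
    (mk : Matrix.SpecialLinearGroup (Fin 2) K →* T) (hmk : Function.Surjective mk)
    (hcases : Function.Injective mk ∨ mk.ker = Subgroup.center (Matrix.SpecialLinearGroup (Fin 2) K)) :
    ∃ rels : Finset (FreeGroup (Fin 3)), rels.card ≤ 9 ∧
      Nonempty (PresentedGroup (↑rels : Set (FreeGroup (Fin 3))) ≃* T) := by
  classical
  obtain ⟨j, hj, hord⟩ := exists_gen (K := K)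
  set m := (Fintype.card K - 1) / 2 with hm
  have hodd : Fintype.card K % 2 = 1 := FiniteField.odd_card_of_char_ne_two (by rw [ringChar.eq K p]; exact hp)
  have h1q := Fintype.one_lt_card (α := K)
  have hm2 : 2 * m = Fintype.card K - 1 := by omega
  have hjm : j ^ m = -1 := by
    have h2 : ((j ^ m : Kˣ) : K) ^ 2 = 1 := by
      rw [← Units.val_pow_eq_pow_val, ← pow_mul, mul_comm, hm2, ← hord, pow_orderOf_eq_one, Units.val_one]
    rcases sq_eq_one_iff.1 h2 with h | h
    · have := Nat.le_of_dvd (by omega) (orderOf_dvd_of_pow_eq_one (Units.ext h : j ^ m = 1))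
      omega
    · exact Units.ext (by simpa using h)
  have hne : wS K * wS K ≠ 1 := fun h => by
    have h' := congrFun (congrFun (congrArg Subtype.val h) 0) 0
    rw [wS_sq] at h'
    simp [diagS_val] at h'
    have h2 : (2 : K) ≠ 0 := Ring.two_ne_zero (by rw [ringChar.eq K p]; exact hp)
    exact h2 (by linear_combination -h')
  -- the exponent
  obtain ⟨n, hmn, hn, hk1, hker⟩ : ∃ n, mk (diagS K j) ^ n = 1 ∧ n ∣ Fintype.card K - 1 ∧
      (mk (wS K) * mk (wS K) = 1 → n ∣ m) ∧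
      ∀ s, mk s = 1 → s = 1 ∨ (s = wS K * wS K ∧ mk (wS K) * mk (wS K) = 1) := by
    rcases hcases with hinj | hker
    · refine ⟨Fintype.card K - 1, ?_, dvd_rfl, fun h => ?_, fun s hs => Or.inl (hinj (hs.trans (map_one mk).symm))⟩
      · rw [← map_pow, ← map_pow, ← hord, pow_orderOf_eq_one, map_one, map_one]
      · exact absurd (hinj (by rw [map_mul, h, map_one])) hne
    · have hz : mk (wS K) * mk (wS K) = 1 := by
        rw [← map_mul, ← MonoidHom.mem_ker, hker]; exact wS_sq_central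
      refine ⟨m, ?_, ⟨2, by omega⟩, fun _ => dvd_rfl, fun s hs => ?_⟩
      · rw [← map_pow, ← map_pow, hjm, ← wS_sq, map_mul, hz]
      · rcases center_cases (hker ▸ MonoidHom.mem_ker.2 hs) with h | h
        · exact Or.inl h
        · exact Or.inr ⟨h, hz⟩
  -- polynomials representing `j` and `j⁻¹`
  have hP : ∀ β : ℤ, ∃ P Q : ℤ[X], Algebra.adjoin ℤ {((j ^ (2 * β) : Kˣ) : K)} = (⊤ : Subalgebra ℤ K) →
      aeval ((j ^ (2 * β) : Kˣ) : K) P = (j : K) ∧ aeval ((j ^ (2 * β) : Kˣ) : K) Q = (j : K)⁻¹ := by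
    intro β
    by_cases hB : Algebra.adjoin ℤ {((j ^ (2 * β) : Kˣ) : K)} = (⊤ : Subalgebra ℤ K)
    · obtain ⟨P, hP⟩ := aeval_adjoin_eq_top _ hB (j : K)
      obtain ⟨Q, hQ⟩ := aeval_adjoin_eq_top _ hB (j : K)⁻¹
      exact ⟨P, Q, fun _ => ⟨hP, hQ⟩⟩
    · exact ⟨0, 0, fun h => absurd h hB⟩
  choose P Q hPQ using hP
  set e1 : FreeGroup (Fin 3) := gX * (gW * gX * gW⁻¹) * gX * gW⁻¹ with he1
  set c1 : FreeGroup (Fin 3) := gW * gH * gW⁻¹ * gH with hc1
  set d1 : FreeGroup (Fin 3) := gW * gW * (gH ^ m)⁻¹ with hd1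
  let f1 : ℤ → FreeGroup (Fin 3) := fun β =>
    word gX gH β (P β) * (gW * word gX gH β (Q β) * gW⁻¹) * word gX gH β (P β) * (gH * gW)⁻¹
  refine assemble hj (upart_odd p hp j hj hord n) mk hmk hker hmn hn m hjm hk1
    (fun β => {c1, d1, e1, f1 β}) 4 (fun β => Finset.card_le_four) (fun β hB r hr => ?_)
    (fun β hB G _ v hv hvn hX => ?_)
  · obtain ⟨hPj, hQj⟩ := hPQ β hB
    simp only [Finset.mem_insert, Finset.mem_singleton] at hr
    rcases hr with rfl | rfl | rfl | rfl
    · simp only [hc1, map_mul, map_inv, lift_gH, lift_gW, Matrix.cons_val_one, Matrix.cons_val_two,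
        Matrix.cons_val_zero, Matrix.tail_cons, Matrix.head_cons]
      rw [← map_inv, ← map_mul, ← map_mul, wS_conj_diagS, map_inv, inv_mul_cancel]
    · simp only [hd1, map_mul, map_inv, map_pow, lift_gH, lift_gW, Matrix.cons_val_one, Matrix.cons_val_two,
        Matrix.cons_val_zero, Matrix.tail_cons, Matrix.head_cons]
      rw [← map_mul, ← map_pow, ← map_pow, hjm, ← wS_sq, mul_inv_cancel]
    · simp only [he1, map_mul, map_inv, lift_gX, lift_gW, Matrix.cons_val_one, Matrix.cons_val_two,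
        Matrix.cons_val_zero, Matrix.tail_cons, Matrix.head_cons]
      have := up_low_up (K := K) 1
      rw [map_one, one_mul, Units.val_one, inv_one] at this
      rw [← map_inv, ← map_mul, ← map_mul, ← map_mul, ← map_mul, ← map_mul, this, mul_inv_cancel, map_one]
    · simp only [f1, map_mul, map_inv, map_word, lift_gX, lift_gH, lift_gW, Matrix.cons_val_one,
        Matrix.cons_val_two, Matrix.cons_val_zero, Matrix.tail_cons, Matrix.head_cons]
      rw [← map_word, ← map_word, word_up, word_up, hPj, hQj, ← map_inv, ← map_mul, ← map_mul, ← map_mul,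
        ← map_mul, up_low_up, mul_inv_eq_one, map_mul]
  · have hc : v 2 * v 1 * (v 2)⁻¹ = (v 1)⁻¹ := by
      have := hv c1 (by simp)
      simp only [hc1, map_mul, map_inv, lift_gH, lift_gW] at this
      exact eq_inv_of_mul_eq_one_left this
    have hd : v 2 * v 2 = v 1 ^ m := by
      have := hv d1 (by simp)
      simpa only [hd1, map_mul, map_inv, map_pow, lift_gH, lift_gW, mul_inv_eq_one] using this
    refine ⟨hc, hd, fun X hXa hX1 hXP H hH t => ?_⟩
    have he : v 0 * (v 2 * v 0 * (v 2)⁻¹) * v 0 = v 2 := by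
      have := hv e1 (by simp)
      simpa only [he1, map_mul, map_inv, lift_gX, lift_gW, mul_inv_eq_one] using this
    obtain ⟨i, hi⟩ := mem_powers_iff_mem_zpowers.2 (hj t)
    obtain ⟨a, ha | ha⟩ := Nat.even_or_odd' i
    · refine ⟨j ^ a, 1, ?_, ?_⟩
      · rw [mul_one, ← pow_mul, ← hi, ha, mul_comm]
      · rw [Units.val_one, inv_one, map_one, one_mul, hX1, he]
    · refine ⟨j ^ a, j, ?_, ?_⟩
      · rw [← pow_mul, ← pow_succ, ← hi, ha, mul_comm]
      · obtain ⟨hPj, hQj⟩ := hPQ β hB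
        have := hv (f1 β) (by simp)
        simp only [f1, map_mul, map_inv, map_word, lift_gX, lift_gH, lift_gW, mul_inv_eq_one] at this
        rw [← hXP, ← hXP, hPj, hQj] at this
        rw [hH]; exact this

/-- characteristic two -/
theorem even_case [CharP K 2] :
    ∃ rels : Finset (FreeGroup (Fin 3)), rels.card ≤ 5 ∧
      Nonempty (PresentedGroup (↑rels : Set (FreeGroup (Fin 3))) ≃* Matrix.ProjectiveSpecialLinearGroup (Fin 2) K) := by
  classical
  obtain ⟨j, hj, hord⟩ := exists_gen (K := K)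
  set n := Fintype.card K - 1 with hn
  have hneg : (-1 : Kˣ) = 1 := Units.ext (by simp [CharTwo.neg_eq])
  have hsq : ∀ t : Kˣ, ∃ s : Kˣ, t = s ^ 2 := fun t => by
    obtain ⟨c, hc⟩ := FiniteField.isSquare_of_char_two (ringChar.eq K 2) (t : K)
    exact ⟨Units.mk0 c (fun h => t.ne_zero (by rw [hc, h, mul_zero])), Units.ext (by simp [hc, pow_two])⟩
  have hU : UPart j n 3 := by
    obtain ⟨e, -, hq⟩ := FiniteField.card K 2
    by_cases he : (e : ℕ) = 1
    · exact upart_prime 2 j n (by rw [hq, he, pow_one])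
    have hB : Algebra.adjoin ℤ {((j ^ (2 * (1 : ℤ)) : Kˣ) : K)} = (⊤ : Subalgebra ℤ K) := by
      rw [eq_top_iff]
      intro t _
      by_cases ht : t = 0
      · rw [ht]; exact zero_mem _
      obtain ⟨s, hs⟩ := hsq (Units.mk0 t ht)
      obtain ⟨i, rfl⟩ := mem_powers_iff_mem_zpowers.2 (hj s)
      have : t = (((j ^ (2 * (1 : ℤ)) : Kˣ) : K)) ^ i := by
        have := congrArg Units.val hs
        simp only [Units.val_mk0, Units.val_pow_eq_pow_val] at this
        rw [this, mul_one, ← pow_mul, zpow_two, ← pow_two, Units.val_pow_eq_pow_val, ← pow_mul, mul_comm]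
      rw [this]
      exact pow_mem (Algebra.subset_adjoin (Set.mem_singleton _)) i
    have hne : 1 + ((j ^ (2 * (1 : ℤ)) : Kˣ) : K) ≠ 0 := by
      intro h
      rw [CharTwo.add_eq_zero] at h
      have h2 : j ^ 2 = 1 := Units.ext (by simpa [zpow_two, pow_two] using h.symm)
      have h3 := Nat.le_of_dvd (by norm_num) (orderOf_dvd_of_pow_eq_one h2)
      rw [hord, hn, hq] at h3
      have : 2 ^ 2 ≤ 2 ^ (e : ℕ) := Nat.pow_le_pow_right (by norm_num) (by have := e.pos; omega)
      omega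
    obtain ⟨s, hs⟩ := hsq (Units.mk0 _ hne)
    obtain ⟨α, rfl⟩ := hj s
    refine (upart_trinomial 2 j n α 1 hB ?_).2 rfl rfl
    have := congrArg Units.val hs
    rw [Units.val_mk0] at this
    rw [this, mul_comm, zpow_mul]
    simp [zpow_two, pow_two]
  set e1 : FreeGroup (Fin 3) := gX * (gW * gX * gW) * gX * gW⁻¹ with he1
  set c1 : FreeGroup (Fin 3) := gW * gH * gW⁻¹ * gH with hc1
  refine assemble hj hU (toPSL K) toPSL_surjective (fun s hs => ?_) ?_ dvd_rfl 0 (by rw [pow_zero, hneg])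
    (fun _ => dvd_zero _) (fun _ => {c1, e1}) 2 (fun _ => Finset.card_le_two) (fun β _ r hr => ?_)
    (fun β _ G _ v hv _ hdata => ?_)
  · rcases center_cases (toPSL_eq_one.1 hs) with h | h
    · exact Or.inl h
    · exact Or.inl (by rw [h, wS_sq, hneg, map_one])
  · rw [← map_pow, ← map_pow, ← hord, pow_orderOf_eq_one, map_one, map_one]
  · have hw1 : wS K = (wS K)⁻¹ := eq_inv_of_mul_eq_one_left (by rw [wS_sq, hneg, map_one])
    simp only [Finset.mem_insert, Finset.mem_singleton] at hr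
    rcases hr with rfl | rfl
    · simp only [hc1, map_mul, map_inv, lift_gH, lift_gW, Matrix.cons_val_one, Matrix.cons_val_two,
        Matrix.cons_val_zero, Matrix.tail_cons, Matrix.head_cons]
      rw [← map_inv, ← map_mul, ← map_mul, wS_conj_diagS, map_inv, inv_mul_cancel]
    · simp only [he1, map_mul, map_inv, lift_gX, lift_gW, Matrix.cons_val_one, Matrix.cons_val_two,
        Matrix.cons_val_zero, Matrix.tail_cons, Matrix.head_cons]
      have := up_low_up (K := K) 1
      rw [map_one, one_mul, Units.val_one, inv_one, ← hw1] at this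
      rw [← map_inv, ← map_mul, ← map_mul, ← map_mul, ← map_mul, ← map_mul, this, mul_inv_cancel, map_one]
  · have hc : v 2 * v 1 * (v 2)⁻¹ = (v 1)⁻¹ := by
      have := hv c1 (by simp)
      simp only [hc1, map_mul, map_inv, lift_gH, lift_gW] at this
      exact eq_inv_of_mul_eq_one_left this
    have he : v 0 * (v 2 * v 0 * v 2) * v 0 = v 2 := by
      have := hv e1 (by simp)
      simpa only [he1, map_mul, map_inv, lift_gX, lift_gW, mul_inv_eq_one] using this
    obtain ⟨X₀, hXa₀, hX1₀, -, -⟩ := hdata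
    have hx2 : v 0 * v 0 = 1 := by
      rw [← hX1₀, hXa₀, CharTwo.add_self_eq_zero]
      exact mul_eq_left.1 (by rw [hXa₀, add_zero] : X₀ 0 * X₀ 0 = X₀ 0)
    have hw2 : v 2 * v 2 = 1 := by
      have hxi : (v 0)⁻¹ = v 0 := inv_eq_of_mul_eq_one_right hx2
      have hbraid : v 2 * v 0 * v 2 = v 0 * v 2 * v 0 := by
        conv_rhs => rw [← he]
        rw [show v 0 * (v 0 * (v 2 * v 0 * v 2) * v 0) * v 0 = (v 0 * v 0) * (v 2 * v 0 * v 2) * (v 0 * v 0) by group,
          hx2, one_mul, mul_one]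
      have hconj : (v 2 * v 0) * v 2 * (v 2 * v 0)⁻¹ = v 0 := by
        rw [show v 2 * v 0 * v 2 * (v 2 * v 0)⁻¹ = (v 2 * v 0 * v 2) * (v 2 * v 0)⁻¹ by group, hbraid]
        rw [_root_.mul_inv_rev, show v 0 * v 2 * v 0 * ((v 0)⁻¹ * (v 2)⁻¹) = v 0 by group]
      have hval : v 2 = (v 2 * v 0)⁻¹ * v 0 * (v 2 * v 0) := by
        conv_rhs => arg 1; arg 2; rw [← hconj]
        group
      rw [hval]
      calc (v 2 * v 0)⁻¹ * v 0 * (v 2 * v 0) * ((v 2 * v 0)⁻¹ * v 0 * (v 2 * v 0)) =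
            (v 2 * v 0)⁻¹ * (v 0 * v 0) * (v 2 * v 0) := by group
        _ = 1 := by rw [hx2, mul_one, inv_mul_cancel]
    refine ⟨hc, by rw [hw2, pow_zero], fun X hXa hX1 hXP H hH t => ?_⟩
    obtain ⟨s, hs⟩ := hsq t
    refine ⟨s, 1, by rw [mul_one, hs], ?_⟩
    rw [Units.val_one, inv_one, map_one, one_mul, hX1, inv_eq_of_mul_eq_one_right hw2, he]

theorem main :
    (∃ rels : Finset (FreeGroup (Fin 3)), rels.card ≤ 9 ∧ Nonempty (PresentedGroup (↑rels : Set (FreeGroup (Fin 3))) ≃* Matrix.SpecialLinearGroup (Fin 2) K)) ∧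
    (∃ rels : Finset (FreeGroup (Fin 3)), rels.card ≤ 9 ∧ Nonempty (PresentedGroup (↑rels : Set (FreeGroup (Fin 3))) ≃* Matrix.ProjectiveSpecialLinearGroup (Fin 2) K)) ∧
    (CharP K 2 → ∃ rels : Finset (FreeGroup (Fin 3)), rels.card ≤ 5 ∧ Nonempty (PresentedGroup (↑rels : Set (FreeGroup (Fin 3))) ≃* Matrix.ProjectiveSpecialLinearGroup (Fin 2) K)) := by
  obtain ⟨p, hp⟩ := CharP.exists K
  have : Fact p.Prime := ⟨CharP.char_is_prime K p⟩
  by_cases hp2 : p = 2
  · subst hp2
    obtain ⟨rels, hc, ⟨φ⟩⟩ := even_case (K := K)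
    have hinj : Function.Injective (toPSL K) := (injective_iff_map_eq_one _).2 fun s hs => by
      rcases center_cases (toPSL_eq_one.1 hs) with h | h
      · exact h
      · rw [h, wS_sq, show (-1 : Kˣ) = 1 from Units.ext (by simp [CharTwo.neg_eq]), map_one]
    refine ⟨⟨rels, hc.trans (by norm_num),
      ⟨φ.trans (MulEquiv.ofBijective (toPSL K) ⟨hinj, toPSL_surjective⟩).symm⟩⟩,
      ⟨rels, hc.trans (by norm_num), ⟨φ⟩⟩, fun _ => ⟨rels, hc, ⟨φ⟩⟩⟩
  · refine ⟨odd_case p hp2 (MonoidHom.id _) Function.surjective_id (Or.inl Function.injective_id),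
      odd_case p hp2 (toPSL K) toPSL_surjective (Or.inr (QuotientGroup.ker_mk' _)), fun h => ?_⟩
    exact absurd (CharP.eq K hp h) hp2

end Cfsg.Agent.SL2Pres
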