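import Cfsg.Agent.Lib.SL2Pres.Torus

/-!
`SL₂` over an arbitrary field maps to any group with rank one Steinberg data and a multiplicative torus.
-/

namespace Cfsg.Agent.SL2Pres

open Matrix

namespace SData

variable {K : Type*} [Field K] {G : Type*} [Group G] (D : SData K G)
  (hgen : Subgroup.closure (Set.range D.X ∪ Set.range D.Y) = ⊤)
  (hmul : ∀ s t : K, s ≠ 0 → t ≠ 0 → D.h (s * t) = D.h s * D.h t)

/-- Normal form. -/
def Form' (g : G) : Prop :=
  (∃ a t : K, t ≠ 0 ∧ g = D.X a * D.h t) ∨ ∃ a b t : K, t ≠ 0 ∧ g = D.X a * D.h t * D.w 1 * D.X b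

include hmul in
theorem w_sq' : D.w 1 * D.w 1 = D.h (-1) := by
  have h1 : D.h (-1) * D.h (-1) = 1 := by
    rw [← hmul _ _ (neg_ne_zero.2 one_ne_zero) (neg_ne_zero.2 one_ne_zero), neg_one_mul, neg_neg, D.h_one]
  have h2 : D.w 1 * D.w 1 = (D.h (-1))⁻¹ := by
    rw [h, _root_.mul_inv_rev, D.w_inv, neg_neg]
  rw [h2]
  exact inv_eq_of_mul_eq_one_right h1

include hgen hmul in
theorem form_all' (g : G) : D.Form' g := by
  have hX : ∀ g b, D.Form' g → D.Form' (g * D.X b) := by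
    rintro g b (⟨a, t, ht, rfl⟩ | ⟨a, c, t, ht, rfl⟩)
    · refine Or.inl ⟨a + t ^ 2 * b, t, ht, ?_⟩
      rw [← D.addX, mul_assoc, mul_assoc, ← D.h_conj_X t b ht]
      simp [mul_assoc]
    · exact Or.inr ⟨a, c + b, t, ht, by rw [← D.addX, mul_assoc _ (D.X c)]⟩
  have hw : ∀ g, D.Form' g → D.Form' (g * D.w 1) := by
    rintro g (⟨a, t, ht, rfl⟩ | ⟨a, c, t, ht, rfl⟩)
    · exact Or.inr ⟨a, 0, t, ht, by rw [X_zero, mul_one]⟩
    · have hm : (-1 : K) ≠ 0 := neg_ne_zero.2 one_ne_zero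
      by_cases hc : c = 0
      · refine Or.inl ⟨a, t * -1, mul_ne_zero ht hm, ?_⟩
        rw [hc, X_zero, mul_one, mul_assoc, D.w_sq' hmul, mul_assoc, ← hmul t _ ht hm]
      · have e1 : D.w 1 * D.X c * D.w 1 = D.Y (-c) * D.h (-1) := by
          have := D.w_conj_X 1 c one_ne_zero
          rw [mul_inv_eq_iff_eq_mul, inv_one, one_pow, one_mul] at this
          rw [this, mul_assoc, D.w_sq' hmul]
        have e2 : D.Y (-c) = D.X (-c⁻¹) * (D.h c⁻¹ * D.w 1) * D.X (-c⁻¹) := by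
          have hw' : D.h c⁻¹ * D.w 1 = D.w c⁻¹ := by
            rw [h, mul_assoc, ← D.w_inv, inv_mul_cancel, mul_one]
          rw [hw', w, inv_inv, ← D.X_neg]
          group
        have e3 : D.X (-c⁻¹) * D.h (-1) = D.h (-1) * D.X (-c⁻¹) := by
          have := D.h_conj_X (-1) (-c⁻¹) hm
          rw [neg_one_sq, one_mul, mul_inv_eq_iff_eq_mul] at this
          exact this.symm
        have e4 : D.w 1 * D.h (-1) = D.h (-1) * D.w 1 := by
          rw [← D.w_sq' hmul, mul_assoc]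
        have e5 : D.h t * D.X (-c⁻¹) = D.X (t ^ 2 * -c⁻¹) * D.h t := by
          rw [← D.h_conj_X t _ ht]; group
        refine Or.inr ⟨a + t ^ 2 * -c⁻¹, -c⁻¹, t * c⁻¹ * -1,
          mul_ne_zero (mul_ne_zero ht (inv_ne_zero hc)) hm, ?_⟩
        calc D.X a * D.h t * D.w 1 * D.X c * D.w 1 = D.X a * D.h t * (D.w 1 * D.X c * D.w 1) := by
              simp only [mul_assoc]
          _ = D.X a * D.h t * (D.X (-c⁻¹) * (D.h c⁻¹ * D.w 1) * (D.X (-c⁻¹) * D.h (-1))) := by
              rw [e1, e2]; simp only [mul_assoc]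
          _ = D.X a * (D.h t * D.X (-c⁻¹)) * D.h c⁻¹ * (D.w 1 * D.h (-1)) * D.X (-c⁻¹) := by
              rw [e3]; simp only [mul_assoc]
          _ = _ := by
              rw [e4, e5, ← D.addX, hmul _ _ (mul_ne_zero ht (inv_ne_zero hc)) hm,
                hmul _ _ ht (inv_ne_zero hc)]
              simp only [mul_assoc]
  have hwinv : ∀ g, D.Form' g → D.Form' (g * (D.w 1)⁻¹) := fun g hg => by
    have : (D.w 1)⁻¹ = D.w 1 * D.w 1 * D.w 1 := by
      rw [inv_eq_iff_mul_eq_one, show D.w 1 * (D.w 1 * D.w 1 * D.w 1) = (D.w 1 * D.w 1) * (D.w 1 * D.w 1) by group,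
        D.w_sq' hmul, ← hmul _ _ (neg_ne_zero.2 one_ne_zero) (neg_ne_zero.2 one_ne_zero), neg_one_mul,
        neg_neg, D.h_one]
    rw [this, ← mul_assoc, ← mul_assoc]
    exact hw _ (hw _ (hw _ hg))
  have hY : ∀ g b, D.Form' g → D.Form' (g * D.Y b) := fun g b hg => by
    have : D.Y b = D.w 1 * D.X (-b) * (D.w 1)⁻¹ := by rw [D.w_conj_X 1 _ one_ne_zero]; simp
    rw [this, ← mul_assoc, ← mul_assoc]
    exact hwinv _ (hX _ _ (hw _ hg))
  have hmem : g ∈ Subgroup.closure (Set.range D.X ∪ Set.range D.Y) := hgen ▸ Subgroup.mem_top g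
  induction hmem using Subgroup.closure_induction_right with
  | one => exact Or.inl ⟨0, 1, one_ne_zero, by rw [X_zero, h_one, mul_one]⟩
  | mul_right x hx y hy ih =>
    rcases hy with ⟨b, rfl⟩ | ⟨b, rfl⟩
    · exact hX _ _ ih
    · exact hY _ _ ih
  | mul_inv_cancel x hx y hy ih =>
    rcases hy with ⟨b, rfl⟩ | ⟨b, rfl⟩
    · rw [D.X_neg]; exact hX _ _ ih
    · rw [D.Y_neg]; exact hY _ _ ih

include hgen hmul in
theorem injective_of' (π : G →* SpecialLinearGroup (Fin 2) K)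
    (hπX : ∀ t, (π (D.X t) : Matrix (Fin 2) (Fin 2) K) = !![1, t; 0, 1])
    (hπY : ∀ t, (π (D.Y t) : Matrix (Fin 2) (Fin 2) K) = !![1, 0; t, 1]) :
    Function.Injective π := by
  rw [← MonoidHom.ker_eq_bot_iff, Subgroup.eq_bot_iff_forall]
  intro g hg
  have hg' : (π g : Matrix (Fin 2) (Fin 2) K) = 1 := congrArg Subtype.val (MonoidHom.mem_ker.1 hg : π g = 1)
  have hmv : ∀ x y, (π (x * y) : Matrix (Fin 2) (Fin 2) K) =
      (π x : Matrix (Fin 2) (Fin 2) K) * (π y : Matrix (Fin 2) (Fin 2) K) := fun x y =>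
    congrArg Subtype.val (π.map_mul x y)
  have hwv : ∀ t : K, t ≠ 0 → (π (D.w t) : Matrix (Fin 2) (Fin 2) K) = !![0, t; -t⁻¹, 0] := fun t ht => by
    simp [w, hmv, hπX, hπY, ht]
  have hhv : ∀ t : K, t ≠ 0 → (π (D.h t) : Matrix (Fin 2) (Fin 2) K) = !![t, 0; 0, t⁻¹] := fun t ht => by
    rw [h, hmv, hwv t ht, hwv (-1) (neg_ne_zero.2 one_ne_zero)]
    simp
  rcases D.form_all' hgen hmul g with ⟨a, t, ht, rfl⟩ | ⟨a, b, t, ht, rfl⟩
  · simp [hmv, hπX, hhv t ht, Matrix.one_fin_two] at hg'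
    obtain ⟨⟨h1, h2⟩, -⟩ := hg'
    subst h1
    simp at h2
    rw [h_one, mul_one, h2, X_zero]
  · simp [hmv, hπX, hhv t ht, hwv 1 one_ne_zero, Matrix.one_fin_two] at hg'
    obtain ⟨-, h3, -⟩ := hg'
    exact absurd h3 (by simp [ht])

end SData

variable {K : Type*} [Field K]

/-- universal property over an arbitrary field -/
theorem exists_hom' {G : Type*} [Group G] (D : SData K G)
    (hm : ∀ s t : K, s ≠ 0 → t ≠ 0 → D.h (s * t) = D.h s * D.h t) :
    ∃ ψ : SpecialLinearGroup (Fin 2) K →* G,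
      (∀ t, ψ (up t) = D.X t) ∧ (∀ t, ψ (low t) = D.Y t) := by
  let x : K → SpecialLinearGroup (Fin 2) K × G := fun t => (up t, D.X t)
  let y : K → SpecialLinearGroup (Fin 2) K × G := fun t => (low t, D.Y t)
  let Γ : Subgroup (SpecialLinearGroup (Fin 2) K × G) := Subgroup.closure (Set.range x ∪ Set.range y)
  have hx : ∀ t, x t ∈ Γ := fun t => Subgroup.subset_closure (Or.inl ⟨t, rfl⟩)
  have hy : ∀ t, y t ∈ Γ := fun t => Subgroup.subset_closure (Or.inr ⟨t, rfl⟩)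
  let E : SData K Γ :=
    { X := fun t => ⟨x t, hx t⟩
      Y := fun t => ⟨y t, hy t⟩
      addX := fun t u => Subtype.ext (Prod.ext (up_add t u) (D.addX t u))
      addY := fun t u => Subtype.ext (Prod.ext
        (Subtype.ext (by simp [y, low_val, Matrix.mul_fin_two, add_comm])) (D.addY t u))
      relX := fun t u ht => Subtype.ext (Prod.ext (by
        show up t * low (-t⁻¹) * up t * up u * (up t * low (-t⁻¹) * up t)⁻¹ = low _
        rw [mul_inv_eq_iff_eq_mul]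
        exact Subtype.ext (by
          simp [up_val, low_val, Matrix.mul_fin_two] <;> field_simp <;> ring_nf <;> simp)) (D.relX t u ht))
      relY := fun t u ht => Subtype.ext (Prod.ext (by
        show low t * up (-t⁻¹) * low t * low u * (low t * up (-t⁻¹) * low t)⁻¹ = up _
        rw [mul_inv_eq_iff_eq_mul]
        exact Subtype.ext (by
          simp [up_val, low_val, Matrix.mul_fin_two] <;> field_simp <;> ring_nf <;> simp)) (D.relY t u ht)) }
  have hwv : ∀ t : K, t ≠ 0 →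
      ((up t * low (-t⁻¹) * up t : SpecialLinearGroup (Fin 2) K) : Matrix (Fin 2) (Fin 2) K) =
        !![0, t; -t⁻¹, 0] := fun t ht => by simp [up_val, low_val, ht]
  have hmE : ∀ s t : K, s ≠ 0 → t ≠ 0 → E.h (s * t) = E.h s * E.h t := by
    intro s t hs ht
    refine Subtype.ext (Prod.ext ?_ (hm s t hs ht))
    show (up (s * t) * low (-(s * t)⁻¹) * up (s * t)) * (up (-1) * low (-(-1)⁻¹) * up (-1)) =
      (up s * low (-s⁻¹) * up s) * (up (-1) * low (-(-1)⁻¹) * up (-1)) *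
        ((up t * low (-t⁻¹) * up t) * (up (-1) * low (-(-1)⁻¹) * up (-1)))
    have hd : ∀ (t : K) (ht : t ≠ 0), (up t * low (-t⁻¹) * up t) * (up (-1) * low (-(-1)⁻¹) * up (-1)) =
        diagS K (Units.mk0 t ht) := fun t ht => by
      refine Subtype.ext ?_
      have h1 := hwv (-1) (neg_ne_zero.2 one_ne_zero)
      simp [up_val, low_val, diagS_val, ht]
    rw [hd _ (mul_ne_zero hs ht), hd _ hs, hd _ ht, ← map_mul]
    exact congrArg (diagS K) (Units.ext rfl)
  have hgenE : Subgroup.closure (Set.range E.X ∪ Set.range E.Y) = ⊤ := by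
    refine eq_top_iff.2 ((Subgroup.closure_closure_coe_preimage (k := Set.range x ∪ Set.range y)).ge.trans
      (Subgroup.closure_mono ?_))
    rintro ⟨z, hz⟩ (⟨t, rfl⟩ | ⟨t, rfl⟩)
    · exact Or.inl ⟨t, rfl⟩
    · exact Or.inr ⟨t, rfl⟩
  let π : Γ →* SpecialLinearGroup (Fin 2) K := (MonoidHom.fst _ _).comp Γ.subtype
  have hinj : Function.Injective π := E.injective_of' hgenE hmE π (fun t => rfl) (fun t => rfl)
  have hsur : Function.Surjective π := by
    rw [← MonoidHom.range_eq_top, eq_top_iff, ← closure_up_low, Subgroup.closure_le]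
    rintro g (⟨t, rfl⟩ | ⟨t, rfl⟩)
    · exact ⟨⟨x t, hx t⟩, rfl⟩
    · exact ⟨⟨y t, hy t⟩, rfl⟩
  let e := MulEquiv.ofBijective π ⟨hinj, hsur⟩
  refine ⟨((MonoidHom.snd _ _).comp Γ.subtype).comp e.symm.toMonoidHom, fun t => ?_, fun t => ?_⟩
  · have h : e.symm (up t) = ⟨x t, hx t⟩ := e.symm_apply_eq.2 rfl
    show ((e.symm (up t) : Γ) : SpecialLinearGroup (Fin 2) K × G).2 = _
    rw [h]
  · have h : e.symm (low t) = ⟨y t, hy t⟩ := e.symm_apply_eq.2 rfl
    show ((e.symm (low t) : Γ) : SpecialLinearGroup (Fin 2) K × G).2 = _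
    rw [h]

end Cfsg.Agent.SL2Pres
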